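import Cfsg.Agent.Lib.SuborbitThree.Setting
import Cfsg.Agent.S0732
import Cfsg.Agent.Lib.PSL2.Basic

/-!
Index two extensions of `A₅` and `PSL(2, 7)` with trivial centraliser.
-/

set_option autoImplicit false
set_option linter.style.haveILetI false
set_option linter.unusedSectionVars false

namespace Cfsg.Agent.SuborbitThree

open Subgroup

variable {G : Type*} [Group G] [Finite G]

/-- The number of Sylow subgroups is an isomorphism invariant. -/
theorem card_sylow_congr {H K : Type*} [Group H] [Finite H] [Group K] [Finite K] (q : ℕ) [Fact q.Prime]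
    (ψ : H ≃* K) : Nat.card (Sylow q H) = Nat.card (Sylow q K) := by
  obtain ⟨P⟩ := (inferInstance : Nonempty (Sylow q H))
  rw [Sylow.card_eq_index_normalizer P,
    Sylow.card_eq_index_normalizer (P.mapSurjective (f := ψ.toMonoidHom) ψ.surjective)]
  show (normalizer ((P : Subgroup H) : Set H)).index =
    (normalizer (((P : Subgroup H).map ψ.toMonoidHom : Subgroup K) : Set K)).index
  rw [    ← index_map_equiv (normalizer ((P : Subgroup H) : Set H)) ψ]
  exact congrArg Subgroup.index (map_equiv_normalizer_eq (P : Subgroup H) ψ)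

/-- A group with a simple normal subgroup with trivial centraliser acts faithfully and transitively
on the Sylow subgroups of the normal subgroup. -/
theorem exists_embedding {N : Subgroup G} [N.Normal] [IsSimpleGroup N] (hC : centralizer (N : Set G) = ⊥)
    (q : ℕ) [Fact q.Prime] (hm : 1 < Nat.card (Sylow q N)) :
    ∃ R : Subgroup (Equiv.Perm (Sylow q N)), MulAction.IsPretransitive R (Sylow q N) ∧ Nonempty (G ≃* R) := by
  let φ : G →* Equiv.Perm (Sylow q N) :=
    (MulAction.toPermHom (MulAut N) (Sylow q N)).comp (MulAut.conjNormal (H := N))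
  have hφ : ∀ (n : N) (P : Sylow q N), φ n P = n • P := by
    intro n P
    show MulAut.conjNormal (H := N) (n : G) • P = n • P
    have e : MulAut.conjNormal (H := N) (n : G) = MulAut.conj n := by
      refine MulEquiv.ext fun y => Subtype.ext ?_
      rw [MulAut.conjNormal_apply, MulAut.conj_apply]
      rfl
    rw [e]
    rfl
  have hinj : Function.Injective φ := by
    refine φ.ker_eq_bot_iff.1 ?_
    haveI : (φ.ker.subgroupOf N).Normal := inferInstance
    rcases Subgroup.Normal.eq_bot_or_eq_top (inferInstance : (φ.ker.subgroupOf N).Normal) with e | e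
    · rw [eq_bot_iff, ← hC]
      intro k (hk : k ∈ φ.ker)
      refine mem_centralizer_iff.2 fun n hn => ?_
      have h1 : k * n * k⁻¹ * n⁻¹ ∈ φ.ker ⊓ N := by
        refine Subgroup.mem_inf.2 ⟨?_, mul_mem (Normal.conj_mem inferInstance n hn k) (inv_mem hn)⟩
        have := mul_mem hk (φ.normal_ker.conj_mem k⁻¹ (inv_mem hk) n)
        simpa [mul_assoc] using this
      have h2 : (⟨_, h1.2⟩ : N) ∈ φ.ker.subgroupOf N := h1.1
      rw [e, mem_bot] at h2
      have h3 : k * n * k⁻¹ * n⁻¹ = 1 := congrArg Subtype.val h2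
      exact (mul_inv_eq_iff_eq_mul.1 (mul_inv_eq_one.1 h3)).symm
    · exfalso
      haveI : Subsingleton (Sylow q N) := ⟨fun P Q => by
        obtain ⟨n, rfl⟩ := MulAction.exists_smul_eq N P Q
        have hn : (n : G) ∈ φ.ker := (SetLike.ext_iff.1 e n).2 (mem_top n)
        rw [← hφ, MonoidHom.mem_ker.1 hn]
        rfl⟩
      have := Nat.card_of_subsingleton (Classical.arbitrary (Sylow q N))
      omega
  refine ⟨φ.range, ⟨fun P Q => ?_⟩, ⟨MonoidHom.ofInjective hinj⟩⟩
  obtain ⟨n, rfl⟩ := MulAction.exists_smul_eq N P Q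
  exact ⟨⟨φ n, n, rfl⟩, hφ n P⟩

theorem card_sylow_two_altFive : Nat.card (Sylow 2 (alternatingGroup (Fin 5))) = 5 := by
  haveI : Fact (Nat.Prime 2) := ⟨Nat.prime_two⟩
  let V : Subgroup (alternatingGroup (Fin 5)) :=
    { carrier := {g | g.1 4 = 4 ∧ g * g = 1}
      one_mem' := by decide
      mul_mem' := fun {a b} ha hb => (by decide +kernel : ∀ a b : alternatingGroup (Fin 5),
        a.1 4 = 4 ∧ a * a = 1 → b.1 4 = 4 ∧ b * b = 1 → (a * b).1 4 = 4 ∧ (a * b) * (a * b) = 1) a b ha hb
      inv_mem' := fun {a} ha => (by decide +kernel : ∀ a : alternatingGroup (Fin 5),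
        a.1 4 = 4 ∧ a * a = 1 → (a⁻¹).1 4 = 4 ∧ a⁻¹ * a⁻¹ = 1) a ha }
  have hV : Nat.card V = 4 := by
    rw [Nat.card_congr (Equiv.subtypeEquivRight (p := (· ∈ V))
      (q := fun g : alternatingGroup (Fin 5) => g.1 4 = 4 ∧ g * g = 1) fun _ => Iff.rfl),
      Nat.card_eq_fintype_card]
    decide +kernel
  have h60 : Nat.card (alternatingGroup (Fin 5)) = 60 := by
    rw [nat_card_alternatingGroup, Nat.card_fin]; rfl
  let P : Sylow 2 (alternatingGroup (Fin 5)) := Sylow.ofCard V (by
    rw [hV, h60, show (60 : ℕ) = 2 ^ 2 * 15 by norm_num, Nat.factorization_mul (by norm_num) (by norm_num),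
      Finsupp.add_apply, Nat.Prime.factorization_pow Nat.prime_two, Finsupp.single_eq_same,
      Nat.factorization_eq_zero_of_not_dvd (by norm_num)]
    rfl)
  have hnorm : normalizer (V : Set (alternatingGroup (Fin 5))) =
      MulAction.stabilizer (alternatingGroup (Fin 5)) (4 : Fin 5) := by
    ext g
    rw [mem_normalizer_iff, MulAction.mem_stabilizer_iff]
    exact (by decide +kernel : ∀ g : alternatingGroup (Fin 5),
      (∀ x : alternatingGroup (Fin 5), (x.1 4 = 4 ∧ x * x = 1) ↔
        ((g * x * g⁻¹).1 4 = 4 ∧ (g * x * g⁻¹) * (g * x * g⁻¹) = 1)) ↔ g.1 4 = 4) g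
  rw [Sylow.card_eq_index_normalizer P]
  show (normalizer (V : Set (alternatingGroup (Fin 5)))).index = 5
  rw [hnorm, MulAction.index_stabilizer]
  have : MulAction.orbit (alternatingGroup (Fin 5)) (4 : Fin 5) = Set.univ := by
    refine Set.eq_univ_of_forall fun i => ?_
    obtain ⟨g, hg⟩ := (by decide +kernel : ∀ i : Fin 5, ∃ g : alternatingGroup (Fin 5), g.1 4 = i) i
    exact ⟨g, hg⟩
  rw [this, Set.ncard_univ, Nat.card_fin]

/-- Index two over `A₅`. -/
theorem equiv_perm_five {N : Subgroup G} [N.Normal] (hidx : N.index = 2)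
    (hC : centralizer (N : Set G) = ⊥) (ψ : N ≃* alternatingGroup (Fin 5)) :
    Nonempty (G ≃* Equiv.Perm (Fin 5)) := by
  haveI : Fact (Nat.Prime 2) := ⟨Nat.prime_two⟩
  haveI : IsSimpleGroup (alternatingGroup (Fin 5)) := alternatingGroup.isSimpleGroup (by rw [Nat.card_fin])
  haveI : IsSimpleGroup N := ψ.isSimpleGroup
  have hm : Nat.card (Sylow 2 N) = 5 := (card_sylow_congr 2 ψ).trans card_sylow_two_altFive
  obtain ⟨R, -, ⟨e⟩⟩ := exists_embedding hC 2 (by omega : 1 < Nat.card (Sylow 2 N))
  have hG : Nat.card G = 120 := by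
    have := N.index_mul_card
    rw [hidx, Nat.card_congr ψ.toEquiv, nat_card_alternatingGroup, Nat.card_fin] at this
    exact this.symm
  haveI := Fintype.ofFinite (Sylow 2 N)
  have htop : R = ⊤ := eq_top_of_card_eq R (by
    rw [← Nat.card_congr e.toEquiv, hG, Nat.card_perm, hm]; rfl)
  exact ⟨(e.trans ((MulEquiv.subgroupCongr htop).trans topEquiv)).trans
    (Finite.equivFinOfCardEq hm).permCongrHom⟩

/-- Index two over `PSL(2, 7)`. -/
theorem equiv_pgl_seven {N : Subgroup G} [N.Normal] (hidx : N.index = 2)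
    (hC : centralizer (N : Set G) = ⊥)
    (ψ : N ≃* Matrix.ProjectiveSpecialLinearGroup (Fin 2) (ZMod 7)) :
    Nonempty (G ≃* GL (Fin 2) (ZMod 7) ⧸ Subgroup.center (GL (Fin 2) (ZMod 7))) := by
  haveI : Fact (Nat.Prime 7) := ⟨by norm_num⟩
  haveI : IsSimpleGroup (Matrix.ProjectiveSpecialLinearGroup (Fin 2) (ZMod 7)) :=
    PSL2.psl_isSimpleGroup (F := ZMod 7) (by rw [ZMod.card]; norm_num)
  haveI : IsSimpleGroup N := ψ.isSimpleGroup
  have hN : Nat.card N = 168 := by
    rw [Nat.card_congr ψ.toEquiv, PSL2.card_PSL, ZMod.card]; rfl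
  have hG : Nat.card G = 336 := by
    have := N.index_mul_card
    rw [hidx, hN] at this
    omega
  have hm : Nat.card (Sylow 7 N) = 8 := by
    obtain ⟨P⟩ := (inferInstance : Nonempty (Sylow 7 N))
    have hP : Nat.card (P : Subgroup N) = 7 := by
      rw [Sylow.card_eq_multiplicity, hN, show (168 : ℕ) = 7 ^ 1 * 24 by norm_num,
        Nat.factorization_mul (by norm_num) (by norm_num), Finsupp.add_apply,
        Nat.Prime.factorization_pow (by norm_num), Finsupp.single_eq_same,
        Nat.factorization_eq_zero_of_not_dvd (by norm_num)]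
      rfl
    have hd : Nat.card (Sylow 7 N) ∣ 24 := by
      have h1 := P.card_dvd_index
      have h2 := (P : Subgroup N).index_mul_card
      rw [hP, hN] at h2
      rwa [show (P : Subgroup N).index = 24 by omega] at h1
    have hmod : Nat.card (Sylow 7 N) % 7 = 1 := card_sylow_modEq_one 7 N
    have hle := Nat.le_of_dvd (by norm_num) hd
    have hne : Nat.card (Sylow 7 N) ≠ 1 := fun h1 => by
      haveI := (Nat.card_eq_one_iff_unique.1 h1).1
      rcases Subgroup.Normal.eq_bot_or_eq_top (Sylow.normal_of_subsingleton P) with e | e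
      · rw [e, card_bot] at hP; omega
      · rw [e, card_top, hN] at hP; omega
    interval_cases Nat.card (Sylow 7 N) <;> omega
  obtain ⟨R, hR, ⟨e⟩⟩ := exists_embedding hC 7 (by omega : 1 < Nat.card (Sylow 7 N))
  haveI := hR
  classical
  haveI := Fintype.ofFinite (Sylow 7 N)
  rcases S0732.result (d := 6) (by norm_num : Nat.Prime 7) (by rw [← Nat.card_eq_fintype_card, hm]) R
      (by rw [← Nat.card_congr e.toEquiv, hG]) (by norm_num) with ⟨-, ⟨f⟩⟩ | ⟨h, -⟩ | ⟨q, -, hq, h | h, -⟩
  · exact ⟨e.trans f⟩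
  · omega
  · omega
  · subst h; omega

end Cfsg.Agent.SuborbitThree
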