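import Cfsg.Agent.Lib.SuborbitThree.Setting
import Cfsg.Agent.Lib.Transfer.Thompson
import Cfsg.Agent.Lib.EvenCyclicNorm.TwoGroup
import Cfsg.Agent.Lib.PMinPush.Shapes
import Cfsg.Agent.S3224

/-!
Two-group and transfer tools for the cases of the point stabiliser.
-/

set_option autoImplicit false
set_option linter.style.haveILetI false
set_option linter.unusedSectionVars false

namespace Cfsg.Agent.SuborbitThree

open Subgroup

variable {G : Type*} [Group G] [Finite G]

theorem pResidual_eq_top_of_insoluble [IsSimpleGroup G] (h : ¬ Group.IsSolvable G) :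
    Cfsg.pResidual 2 G = ⊤ := by
  refine PMinPush.pResidual_eq_top_of_perfect ?_
  rcases Subgroup.Normal.eq_bot_or_eq_top (inferInstance : (commutator G).Normal) with e | e
  · refine absurd (Group.isSolvable_of_comm fun a b => ?_) h
    have := Subgroup.commutator_mem_commutator (mem_top a) (mem_top b)
    rw [← commutator_def, e, mem_bot, commutatorElement_eq_one_iff_commute] at this
    exact this.eq
  · exact e

/-- A fixed-point-free involution makes a subgroup commutative. -/
theorem isMulCommutative_of_fpf {N : Subgroup G} [N.Normal] {z : G} (hz : orderOf z = 2)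
    (hfix : ∀ n ∈ N, z * n = n * z → n = 1) : IsMulCommutative N := by
  let φ : N →* N := (MulAut.conjNormal (H := N) z).toMonoidHom
  have hinv : Function.Involutive φ := fun y => Subtype.ext (by
    show z * (z * (y : G) * z⁻¹) * z⁻¹ = y
    have h2 : z * z = 1 := by rw [← sq, ← hz, pow_orderOf_eq_one]
    rw [show z * (z * (y : G) * z⁻¹) * z⁻¹ = z * z * y * (z * z)⁻¹ by group, h2]
    simp)
  have hfpf : MonoidHom.FixedPointFree φ := fun y hy => Subtype.ext (hfix _ y.2
    (mul_inv_eq_iff_eq_mul.1 (congrArg Subtype.val hy)))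
  exact ⟨⟨fun a b => hfpf.commute_all_of_involutive hinv a b⟩⟩

/-- If a Sylow 2-subgroup has a cyclic subgroup of index two and `O²(G) = G`, every involution of it is
conjugate to one which is central in it. -/
theorem exists_central_conj (hO : Cfsg.pResidual 2 G = ⊤) (P : Sylow 2 G) {x : G}
    (hx : x ∈ (P : Subgroup G)) (hcard : Nat.card (P : Subgroup G) = 2 * orderOf x)
    {u : G} (hu : orderOf u = 2) (huP : u ∈ (P : Subgroup G)) :
    ∃ g : G, (P : Subgroup G) ≤ centralizer ({g * u * g⁻¹} : Set G) := by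
  have hle : zpowers x ≤ (P : Subgroup G) := zpowers_le.2 hx
  have hidx : (zpowers x).relIndex (P : Subgroup G) = 2 := by
    have h1 := card_mul_index ((zpowers x).subgroupOf (P : Subgroup G))
    rw [Nat.card_congr (subgroupOfEquivOfLe hle).toEquiv, Nat.card_zpowers, hcard, mul_comm 2] at h1
    exact Nat.eq_of_mul_eq_mul_left (orderOf_pos x) h1
  obtain ⟨g, hg⟩ := Transfer.exists_conj_mem_of_pResidual_eq_top P (zpowers x) hle hidx hO u
    (by rw [← hu, pow_orderOf_eq_one]) huP
  refine ⟨g, fun p hp => mem_cent_iff.2 ?_⟩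
  have hn : ((zpowers x).subgroupOf (P : Subgroup G)).Normal := normal_of_index_eq_two hidx
  have h2 : orderOf (g * u * g⁻¹) = 2 := by rw [← hu]; exact (MulAut.conj g).orderOf_eq u
  have hp' : p * (g * u * g⁻¹) * p⁻¹ ∈ zpowers x :=
    hn.conj_mem ⟨g * u * g⁻¹, hle hg⟩ hg ⟨p, hp⟩
  have h2' : orderOf (p * (g * u * g⁻¹) * p⁻¹) = 2 := by rw [← h2]; exact (MulAut.conj p).orderOf_eq _
  exact mul_inv_eq_iff_eq_mul.1 (EvenCyclicNorm.involution_unique h2' h2 hp' hg)

/-- An involution with centraliser of order four in a larger Sylow subgroup: cyclic of index two. -/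
theorem exists_cyclic_half (P : Sylow 2 G) {z : G} (hz : orderOf z = 2) (hzP : z ∈ (P : Subgroup G))
    (hC : Nat.card ((P : Subgroup G) ⊓ centralizer ({z} : Set G) : Subgroup G) = 4)
    (h4 : Nat.card (P : Subgroup G) ≠ 4) :
    ((∃ n : ℕ, Nonempty ((P : Subgroup G) ≃* DihedralGroup n)) ∨ Cfsg.IsQuasiDihedral (P : Subgroup G)) ∧
    ∃ x : G, x ∈ (P : Subgroup G) ∧ Nat.card (P : Subgroup G) = 2 * orderOf x := by
  set z' : (P : Subgroup G) := ⟨z, hzP⟩
  have hcent : centralizer ({z'} : Set (P : Subgroup G)) =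
      ((P : Subgroup G) ⊓ centralizer ({z} : Set G)).subgroupOf (P : Subgroup G) := by
    ext y
    rw [mem_subgroupOf, mem_inf, mem_cent_iff, mem_cent_iff]
    exact ⟨fun h => ⟨y.2, congrArg Subtype.val h⟩, fun h => Subtype.ext h.2⟩
  have h1 : Nat.card (centralizer ({z'} : Set (P : Subgroup G))) = 4 := by
    rw [hcent, Nat.card_congr (subgroupOfEquivOfLe inf_le_left).toEquiv, hC]
  rcases S3224.result P.2 z' (by rw [← orderOf_coe]; exact hz) h1 with ⟨n, ⟨e⟩⟩ | hq | h
  · refine ⟨Or.inl ⟨n, ⟨e⟩⟩, (e.symm (DihedralGroup.r 1) : G), (e.symm _).2, ?_⟩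
    rw [orderOf_coe, MulEquiv.orderOf_eq, DihedralGroup.orderOf_r_one, Nat.card_congr e.toEquiv,
      DihedralGroup.nat_card]
  · obtain ⟨n, -, hn, x, y, hx, -⟩ := id hq
    exact ⟨Or.inr hq, x, x.2, by rw [orderOf_coe, hx, hn, pow_succ, mul_comm]⟩
  · exact absurd h h4

end Cfsg.Agent.SuborbitThree
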