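import Cfsg.Agent.Lib.SuborbitThree.CaseThree
import Cfsg.Agent.Lib.SuborbitThree.AlmostSimple
import Cfsg.Agent.Lib.SuborbitThree.Tools
import Cfsg.Agent.Lib.HallNumber.Existence
import Cfsg.Agent.Lib.BSW.Small
import Cfsg.Agent.Lib.BSW.DihedralTI
import Cfsg.Agent.Lib.Transfer.Burnside
import Cfsg.Agent.Lib.PSL2.PGLHom
import Cfsg.Agent.S0251

/-!
A point stabiliser isomorphic to the dihedral group of order 12.
-/

set_option autoImplicit false
set_option linter.style.haveILetI false
set_option linter.unusedSectionVars false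

namespace Cfsg.Agent.SuborbitThree

open Subgroup

variable {G : Type*} [Group G] [Finite G] {A : Subgroup G}

/-- The element of `A` corresponding to `k`. -/
abbrev el (e : A ≃* DihedralGroup 6) (k : DihedralGroup 6) : G := ((e.symm k : A) : G)

theorem el_mem (e : A ≃* DihedralGroup 6) (k : DihedralGroup 6) : el e k ∈ A := (e.symm k).2

theorem el_mul (e : A ≃* DihedralGroup 6) (k l : DihedralGroup 6) : el e (k * l) = el e k * el e l := by
  simp [el]

theorem el_inj (e : A ≃* DihedralGroup 6) {k l : DihedralGroup 6} (h : el e k = el e l) : k = l :=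
  e.symm.injective (Subtype.ext h)

theorem orderOf_el (e : A ≃* DihedralGroup 6) (k : DihedralGroup 6) : orderOf (el e k) = orderOf k := by
  rw [el, orderOf_coe, MulEquiv.orderOf_eq]

theorem exists_el (e : A ≃* DihedralGroup 6) {g : G} (hg : g ∈ A) : ∃ k, el e k = g :=
  ⟨e ⟨g, hg⟩, by simp [el]⟩

theorem el_inv (e : A ≃* DihedralGroup 6) (k : DihedralGroup 6) : el e k⁻¹ = (el e k)⁻¹ := by
  simp only [el, map_inv, Subgroup.coe_inv]

theorem el_pow (e : A ≃* DihedralGroup 6) (k : DihedralGroup 6) (n : ℕ) : el e (k ^ n) = el e k ^ n := by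
  simp only [el, map_pow, Subgroup.coe_pow]

theorem el_one (e : A ≃* DihedralGroup 6) : el e 1 = 1 := by
  simp only [el, map_one, Subgroup.coe_one]

theorem z_comm : ∀ k : DihedralGroup 6, DihedralGroup.r 3 * k = k * DihedralGroup.r 3 := by decide

theorem orderOf_z : orderOf (DihedralGroup.r 3 : DihedralGroup 6) = 2 :=
  orderOf_eq_prime (by decide) (by decide)

theorem orderOf_two : orderOf (DihedralGroup.r 2 : DihedralGroup 6) = 3 :=
  haveI : Fact (Nat.Prime 3) := ⟨Nat.prime_three⟩
  orderOf_eq_prime (by decide) (by decide)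

theorem mem_normalizer_zpowers_self {g x : G} (hg : g * x * g⁻¹ ∈ zpowers x) :
    g ∈ normalizer (zpowers x : Set G) := by
  set K := zpowers x
  have hle : K.map (MulAut.conj g).toMonoidHom ≤ K := by
    rw [MonoidHom.map_zpowers, zpowers_le]
    exact hg
  have heq : K.map (MulAut.conj g).toMonoidHom = K :=
    eq_of_le_of_card_ge hle (by rw [card_map_of_injective (MulAut.conj g).injective])
  refine mem_normalizer_iff.2 fun y => ⟨fun hy => heq.le ⟨y, hy, rfl⟩, fun hy => ?_⟩
  obtain ⟨w, hw, hwy⟩ := heq.ge hy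
  rwa [← (MulAut.conj g).injective hwy]

theorem le_normalizer_two (e : A ≃* DihedralGroup 6) :
    A ≤ normalizer (zpowers (el e (DihedralGroup.r 2)) : Set G) := fun a ha => by
  obtain ⟨k, rfl⟩ := exists_el e ha
  have key : ∀ k : DihedralGroup 6, k * DihedralGroup.r 2 * k⁻¹ = DihedralGroup.r 2 ∨
      k * DihedralGroup.r 2 * k⁻¹ = (DihedralGroup.r 2)⁻¹ := by decide
  refine mem_normalizer_zpowers_self ?_
  rw [show el e k * el e (DihedralGroup.r 2) * (el e k)⁻¹ = el e (k * DihedralGroup.r 2 * k⁻¹) by simp [el]]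
  rcases key k with q | q <;> rw [q]
  · exact mem_zpowers _
  · rw [show el e (DihedralGroup.r 2)⁻¹ = (el e (DihedralGroup.r 2))⁻¹ by simp only [el, map_inv, coe_inv]]
    exact inv_mem (mem_zpowers _)

variable (h : Prim A) (e : A ≃* DihedralGroup 6)
include h

theorem cent_z : centralizer ({el e (DihedralGroup.r 3)} : Set G) = A := by
  have hA : A ≤ centralizer ({el e (DihedralGroup.r 3)} : Set G) := fun a ha => by
    obtain ⟨k, rfl⟩ := exists_el e ha
    rw [mem_cent_iff, ← el_mul, ← el_mul, z_comm]
  refine le_antisymm ?_ hA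
  rcases hA.eq_or_lt with e' | e'
  · exact e'.ge
  · exfalso
    have htop := h.max.2 _ e'
    have hn : (zpowers (el e (DihedralGroup.r 3))).Normal := ⟨fun x hx g => by
      obtain ⟨i, rfl⟩ := hx
      have hg : g * el e (DihedralGroup.r 3) = el e (DihedralGroup.r 3) * g :=
        mem_cent_iff.1 (htop ▸ mem_top g)
      refine ⟨i, ?_⟩
      show el e (DihedralGroup.r 3) ^ i = g * el e (DihedralGroup.r 3) ^ i * g⁻¹
      rw [(show Commute g (el e (DihedralGroup.r 3)) from hg).zpow_right i |>.eq, mul_inv_cancel_right]⟩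
    have := h.core _ hn (zpowers_le.2 (el_mem e _))
    rw [zpowers_eq_bot, ← orderOf_eq_one_iff, orderOf_el, orderOf_z] at this
    omega

/-- Elements centralising the subgroup of order 3. -/
theorem cent_X {g : G} (hg : g * el e (DihedralGroup.r 2) = el e (DihedralGroup.r 2) * g) :
    ∃ i, g = el e (DihedralGroup.r i) := by
  set X := zpowers (el e (DihedralGroup.r 2)) with hX
  have hX' : A ≤ normalizer (X : Set G) := le_normalizer_two e
  have hne : X ≠ ⊥ := fun hb => by
    rw [hX, zpowers_eq_bot, ← orderOf_eq_one_iff, orderOf_el, orderOf_two] at hb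
    omega
  have hgA : g ∈ A := (h.normalizer_eq (zpowers_le.2 (el_mem e _)) hne hX').le
    (centralizer_le_normalizer _ (mem_centralizer_iff.2 fun x hx => by
      obtain ⟨i, rfl⟩ := hx
      exact ((show Commute g (el e (DihedralGroup.r 2)) from hg).zpow_right i).eq.symm))
  obtain ⟨k, rfl⟩ := exists_el e hgA
  rw [← el_mul, ← el_mul] at hg
  have key : ∀ k : DihedralGroup 6, k * DihedralGroup.r 2 = DihedralGroup.r 2 * k →
      ∃ i, k = DihedralGroup.r i := by decide
  obtain ⟨i, hi⟩ := key k (el_inj e hg)
  exact ⟨i, by rw [hi]⟩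

/-- A normal subgroup missing the centre of `A`. -/
theorem case_normal (N : Subgroup G) [N.Normal] (hne : N ≠ ⊥) (hz : el e (DihedralGroup.r 3) ∉ N) :
    Nonempty (G ≃* alternatingGroup (Fin 5)) ∨ Nonempty (G ≃* Equiv.Perm (Fin 5)) ∨
      Nonempty (G ≃* GL (Fin 2) (ZMod 7) ⧸ Subgroup.center (GL (Fin 2) (ZMod 7))) := by
  haveI : Fact (Nat.Prime 7) := ⟨by norm_num⟩
  haveI : Fact (Nat.Prime 3) := ⟨Nat.prime_three⟩
  have hNs := h.normal_not_solvable hne
  have hx : el e (DihedralGroup.r 2) ∈ N := by
    obtain ⟨k, hk, hk1⟩ : ∃ k, el e k ∈ N ∧ k ≠ 1 := by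
      by_contra hcon
      push Not at hcon
      refine hNs ?_
      haveI := isMulCommutative_of_fpf (N := N) (z := el e (DihedralGroup.r 3))
        (by rw [orderOf_el, orderOf_z]) fun n hn hzn => by
          obtain ⟨k, rfl⟩ := exists_el e ((cent_z h e).le (mem_cent_iff.2 hzn.symm))
          simp [el, hcon k hn]
      exact Group.isSolvable_of_comm fun a b => IsMulCommutative.is_comm.comm a b
    have hk3 : k ≠ DihedralGroup.r 3 := fun q => hz (q ▸ hk)
    have key : ∀ k : DihedralGroup 6, k ≠ 1 → k ≠ DihedralGroup.r 3 → ∃ l : DihedralGroup 6,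
        k * (l * k * l⁻¹) = DihedralGroup.r 2 ∨ (k * (l * k * l⁻¹))⁻¹ = DihedralGroup.r 2 := by decide
    obtain ⟨l, hl⟩ := key k hk1 hk3
    have hmem : el e (k * (l * k * l⁻¹)) ∈ N := by
      have := mul_mem hk (Normal.conj_mem inferInstance _ hk (el e l))
      simpa [el] using this
    rcases hl with q | q <;> rw [← q]
    · exact hmem
    · simpa [el] using inv_mem hmem
  set xN : N := ⟨_, hx⟩
  set X : Subgroup N := zpowers xN
  have hX3 : Nat.card X = 3 := by
    rw [Nat.card_zpowers, ← orderOf_coe, orderOf_el, orderOf_two]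
  have hXC : centralizer (X : Set N) = X := by
    refine le_antisymm (fun n hn => ?_) fun n hn => mem_centralizer_iff.2 fun m hm => ?_
    · have h1 : (n : G) * el e (DihedralGroup.r 2) = el e (DihedralGroup.r 2) * n :=
        (congrArg Subtype.val (mem_centralizer_iff.1 hn xN (mem_zpowers _))).symm
      obtain ⟨i, hi⟩ := cent_X h e h1
      have key : ∀ i : ZMod 6, i = 0 ∨ i = 2 ∨ i = 4 ∨ i = 3 ∨ i + 4 = 3 ∨ i + 2 = 3 := by decide
      have hsplit : ∀ a b : ZMod 6, el e (DihedralGroup.r (a + b)) =
          el e (DihedralGroup.r a) * el e (DihedralGroup.r b) := fun a b => by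
        rw [← el_mul, DihedralGroup.r_mul_r]
      rcases key i with q | q | q | q | q | q
      · have : n = 1 := Subtype.ext (by rw [hi, q]; simp [el])
        rw [this]; exact one_mem _
      · have : n = xN := Subtype.ext (by rw [hi, q])
        rw [this]; exact mem_zpowers _
      · have : n = xN * xN := Subtype.ext (by rw [hi, q, show (4 : ZMod 6) = 2 + 2 from rfl, hsplit]; rfl)
        rw [this]; exact mul_mem (mem_zpowers _) (mem_zpowers _)
      · exact absurd (by rw [← q, ← hi]; exact n.2) hz
      · refine absurd ?_ hz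
        rw [← q, hsplit, show (4 : ZMod 6) = 2 + 2 from rfl, hsplit, ← hi]
        exact mul_mem n.2 (mul_mem hx hx)
      · refine absurd ?_ hz
        rw [← q, hsplit, ← hi]
        exact mul_mem n.2 hx
    · obtain ⟨i, rfl⟩ := hn
      obtain ⟨j, rfl⟩ := hm
      exact (((Commute.refl xN).zpow_left j).zpow_right i).eq
  have hcentN : centralizer (N : Set G) = ⊥ := by
    refine h.core _ inferInstance fun g hg => ?_
    obtain ⟨i, rfl⟩ := cent_X h e (mem_centralizer_iff.1 hg _ hx).symm
    exact el_mem e _
  -- the recognition of `N`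
  have hN : Nonempty (N ≃* alternatingGroup (Fin 5)) ∨
      Nonempty (N ≃* Matrix.ProjectiveSpecialLinearGroup (Fin 2) (ZMod 7)) := by
    rcases S3331.result X hX3 hXC with ⟨M, hM, hnil, -, hq⟩ | ⟨M, hM, hab, -, ⟨φ⟩⟩ | hiso
    · exfalso
      haveI := hnil
      refine hNs (isSolvable_of_ext M inferInstance ?_)
      obtain ⟨i, hi⟩ : ∃ i, Nat.card (N ⧸ M) = 2 ^ i * 3 ^ 1 := by
        rcases hq with hq | ⟨⟨φ⟩⟩
        · exact ⟨0, by rw [hq]; rfl⟩
        · exact ⟨1, by rw [Nat.card_congr φ.toEquiv, Nat.card_perm, Nat.card_fin]; rfl⟩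
      exact CharInt.isSolvable_of_card_eq Nat.prime_two Nat.prime_three hi
    · left
      haveI := hab
      haveI : IsSimpleGroup (alternatingGroup (Fin 5)) := alternatingGroup.isSimpleGroup (by rw [Nat.card_fin])
      have hinv : ∀ g : G, M.map (MulAut.conjNormal (H := N) g).toMonoidHom ≤ M := by
        intro g
        set M' := M.map (MulAut.conjNormal (H := N) g).toMonoidHom
        haveI : M'.Normal := hM.map _ (MulAut.conjNormal (H := N) g).surjective
        set T := M'.map (φ.toMonoidHom.comp (QuotientGroup.mk' M))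
        haveI hT : T.Normal := ‹M'.Normal›.map _ (φ.surjective.comp (QuotientGroup.mk'_surjective M))
        rcases Subgroup.Normal.eq_bot_or_eq_top hT with q | q
        · intro y hy
          have : φ (QuotientGroup.mk' M y) ∈ T := ⟨y, hy, rfl⟩
          rw [q, mem_bot, map_eq_one_iff φ φ.injective, QuotientGroup.mk'_apply, QuotientGroup.eq_one_iff] at this
          exact this
        · exfalso
          refine hNs ?_
          have hsM : Group.IsSolvable M' := by
            haveI : Group.IsSolvable M := Group.isSolvable_of_comm fun a b => IsMulCommutative.is_comm.comm a b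
            exact Group.isSolvable_of_surjective ((MulAut.conjNormal (H := N) g).toMonoidHom.subgroupMap_surjective M)
          haveI := hsM
          have hsT : Group.IsSolvable (alternatingGroup (Fin 5)) := by
            haveI : Group.IsSolvable T :=
              Group.isSolvable_of_surjective ((φ.toMonoidHom.comp (QuotientGroup.mk' M)).subgroupMap_surjective M')
            rw [q] at *
            exact Group.isSolvable_of_surjective (f := (topEquiv : _ ≃* alternatingGroup (Fin 5)).toMonoidHom) topEquiv.surjective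
          haveI := hsT
          haveI : Group.IsSolvable (N ⧸ M) := Group.isSolvable_of_isSolvable_injective (f := φ.toMonoidHom) φ.injective
          exact isSolvable_of_ext M (Group.isSolvable_of_comm fun a b => IsMulCommutative.is_comm.comm a b) inferInstance
      haveI : (M.map N.subtype).Normal := ⟨fun y hy g => by
        obtain ⟨m, hm, rfl⟩ := hy
        exact ⟨_, hinv g ⟨m, hm, rfl⟩, rfl⟩⟩
      have hbot : M.map N.subtype = ⊥ := h.normal_eq_bot (by
        haveI : Group.IsSolvable M := Group.isSolvable_of_comm fun a b => IsMulCommutative.is_comm.comm a b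
        exact Group.isSolvable_of_surjective (N.subtype.subgroupMap_surjective M))
      have hbot' : M = ⊥ := (map_eq_bot_iff_of_injective M N.subtype_injective).1 hbot
      exact ⟨(QuotientGroup.quotientBot.symm.trans (QuotientGroup.quotientMulEquivOfEq hbot'.symm)).trans φ⟩
    · exact Or.inr hiso
  have hsimp : IsSimpleGroup N ∧ 3 ∣ Nat.card N ∧ ¬ 9 ∣ Nat.card N := by
    rcases hN with ⟨⟨ψ⟩⟩ | ⟨⟨ψ⟩⟩
    · haveI : IsSimpleGroup (alternatingGroup (Fin 5)) := alternatingGroup.isSimpleGroup (by rw [Nat.card_fin])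
      refine ⟨ψ.isSimpleGroup, ?_⟩
      rw [Nat.card_congr ψ.toEquiv, nat_card_alternatingGroup, Nat.card_fin]
      decide
    · haveI : IsSimpleGroup (Matrix.ProjectiveSpecialLinearGroup (Fin 2) (ZMod 7)) :=
        PSL2.psl_isSimpleGroup (F := ZMod 7) (by rw [ZMod.card]; norm_num)
      refine ⟨ψ.isSimpleGroup, ?_⟩
      rw [Nat.card_congr ψ.toEquiv, PSL2.card_PSL, ZMod.card]
      decide
  -- `N ∩ A` has order 6
  have hidx : N.index = 2 := by
    have hsurj := h.mk_surjective hne
    set π := (QuotientGroup.mk' N).comp A.subtype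
    have hcard : Nat.card π.ker * N.index = 12 := by
      have := π.ker.card_mul_index
      rw [Subgroup.index_ker, MonoidHom.range_eq_top.2 hsurj, card_top,
        Nat.card_congr e.toEquiv, DihedralGroup.nat_card] at this
      exact this
    have hker : ∀ a : A, a ∈ π.ker ↔ (a : G) ∈ N := fun a => by
      rw [MonoidHom.mem_ker]
      exact QuotientGroup.eq_one_iff _
    obtain ⟨b, hb⟩ : ∃ b : DihedralGroup 6, el e b ∈ N ∧ b * DihedralGroup.r 2 ≠ DihedralGroup.r 2 * b := by
      by_contra hcon
      push Not at hcon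
      obtain ⟨hs, h3, h9⟩ := hsimp
      haveI := hs
      have hnidx : ¬ 3 ∣ X.index := by
        intro hd
        apply h9
        have := X.card_mul_index
        rw [hX3] at this
        rw [← this]
        exact mul_dvd_mul_left 3 hd
      let S : Sylow 3 N := (IsPGroup.of_card (n := 1) (by rw [hX3, pow_one]) : IsPGroup 3 X).toSylow hnidx
      obtain ⟨Q, K, hK, hc⟩ := Transfer.hasNormalPComplement_of_normalizer_le_centralizer S fun n hn => by
        show n ∈ centralizer (X : Set N)
        have hn' : n ∈ normalizer (X : Set N) := hn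
        obtain ⟨k, hk⟩ := exists_el e ((h.normalizer_eq (zpowers_le.2 (el_mem e _)) (fun hb => by
            rw [zpowers_eq_bot, ← orderOf_eq_one_iff, orderOf_el, orderOf_two] at hb; omega)
          (le_normalizer_two e)).le (mem_normalizer_zpowers_self (g := (n : G)) (by
            obtain ⟨i, hi⟩ := (mem_normalizer_iff.1 hn' xN).1 (mem_zpowers _)
            exact ⟨i, congrArg Subtype.val hi⟩)))
        refine mem_centralizer_iff.2 fun m hm => ?_
        obtain ⟨j, rfl⟩ := hm
        have hc : Commute xN n := Subtype.ext (by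
          show el e (DihedralGroup.r 2) * (n : G) = n * el e (DihedralGroup.r 2)
          rw [← hk, ← el_mul, ← el_mul, hcon k (hk ▸ n.2)])
        exact (hc.zpow_left j).eq
      rcases Subgroup.Normal.eq_bot_or_eq_top hK with q | q
      · refine hNs ?_
        subst q
        haveI : Group.IsNilpotent N := by
          have := isComplement'_bot_left.1 hc
          have hQ : IsPGroup 3 (⊤ : Subgroup N) := this ▸ Q.2
          exact (hQ.of_equiv topEquiv).isNilpotent
        infer_instance
      · subst q
        have h1 := isComplement'_top_left.1 hc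
        exact Q.ne_bot_of_dvd_card h3 h1
    obtain ⟨hbN, hb2⟩ := hb
    have h6 : 6 ∣ Nat.card π.ker := by
      have hx' : e.symm (DihedralGroup.r 2) ∈ π.ker := (hker _).2 hx
      have hb' : e.symm b ∈ π.ker := (hker _).2 hbN
      have h3' : 3 ∣ Nat.card π.ker := by
        rw [← orderOf_two, ← e.symm.orderOf_eq, ← Subgroup.orderOf_mk _ hx']
        exact orderOf_dvd_natCard _
      have key : ∀ b : DihedralGroup 6, b * DihedralGroup.r 2 ≠ DihedralGroup.r 2 * b → b * b = 1 ∧ b ≠ 1 := by decide
      have h2' : 2 ∣ Nat.card π.ker := by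
        have : orderOf (e.symm b) = 2 := by
          rw [MulEquiv.orderOf_eq]
          exact orderOf_eq_prime (by rw [sq]; exact (key b hb2).1) (key b hb2).2
        rw [← this, ← Subgroup.orderOf_mk _ hb']
        exact orderOf_dvd_natCard _
      exact Nat.Coprime.mul_dvd_of_dvd_of_dvd (by norm_num : Nat.Coprime 2 3) h2' h3'
    have hne12 : Nat.card π.ker ≠ 12 := fun q => by
      have : π.ker = ⊤ := eq_top_of_card_eq _ (by rw [q, Nat.card_congr e.toEquiv, DihedralGroup.nat_card])
      exact hz ((hker _).1 (this.ge (mem_top _)))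
    have hd : Nat.card π.ker ∣ 12 := ⟨_, hcard.symm⟩
    obtain ⟨t, ht⟩ := h6
    have ht2 : t = 1 := by
      rw [ht] at hd hne12
      have := Nat.le_of_dvd (by norm_num) hd
      have hpos : 0 < Nat.card π.ker := Nat.card_pos
      omega
    rw [ht, ht2] at hcard
    omega
  rcases hN with ⟨⟨ψ⟩⟩ | ⟨⟨ψ⟩⟩
  · exact Or.inr (Or.inl (equiv_perm_five hidx hcentN ψ))
  · exact Or.inr (Or.inr (equiv_pgl_seven hidx hcentN ψ))

end Cfsg.Agent.SuborbitThree
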