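import Cfsg.Agent.Lib.SuborbitThree.CaseD12
import Cfsg.Agent.Lib.PSL2.MaximalPGLClassify

/-!
A dihedral point stabiliser of order 12: every normal subgroup contains the centre, the group is simple.
-/

set_option autoImplicit false
set_option linter.style.haveILetI false
set_option linter.unusedSectionVars false

namespace Cfsg.Agent.SuborbitThree

open Subgroup
open scoped MatrixGroups

variable {G : Type*} [Group G] [Finite G] {A : Subgroup G} (h : Prim A) (e : A ≃* DihedralGroup 6)
include h e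

theorem eq_top_of_z_mem (N : Subgroup G) [N.Normal] (hz : el e (DihedralGroup.r 3) ∈ N) : N = ⊤ := by
  haveI : Fact (Nat.Prime 2) := ⟨Nat.prime_two⟩
  have hne : N ≠ ⊥ := fun q => by
    rw [q, mem_bot, ← orderOf_eq_one_iff, orderOf_el, orderOf_z] at hz
    omega
  by_contra htop
  have hrot : ∀ k, el e k ∈ N → ∃ i, k = DihedralGroup.r i := by
    intro k hk
    by_contra hcon
    obtain ⟨i, rfl⟩ : ∃ i, k = DihedralGroup.sr i := by
      cases k with
      | r i => exact absurd ⟨i, rfl⟩ hcon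
      | sr i => exact ⟨i, rfl⟩
    refine htop ?_
    have key : ∀ i : ZMod 6,
        DihedralGroup.r 1 = DihedralGroup.r 3 *
          (DihedralGroup.sr i * (DihedralGroup.r 1 * DihedralGroup.sr i * (DihedralGroup.r 1)⁻¹)) ∨
        DihedralGroup.r 1 = DihedralGroup.r 3 *
          ((DihedralGroup.r 1 * DihedralGroup.sr i * (DihedralGroup.r 1)⁻¹) * DihedralGroup.sr i) := by decide
    have hr1 : el e (DihedralGroup.r 1) ∈ N := by
      have hc := Normal.conj_mem inferInstance _ hk (el e (DihedralGroup.r 1))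
      rcases key i with q | q <;> rw [q]
      · simp only [el_mul, el_inv]; exact mul_mem hz (mul_mem hk hc)
      · simp only [el_mul, el_inv]; exact mul_mem hz (mul_mem hc hk)
    have hAN : A ≤ N := by
      intro a ha
      obtain ⟨k, rfl⟩ := exists_el e ha
      have key2 : ∀ (k : DihedralGroup 6) (i : ZMod 6), ∃ j : Fin 6,
          k = DihedralGroup.r 1 ^ (j : ℕ) ∨ k = DihedralGroup.r 1 ^ (j : ℕ) * DihedralGroup.sr i := by decide
      obtain ⟨j, q | q⟩ := key2 k i <;> rw [q]
      · rw [el_pow]; exact pow_mem hr1 (j : ℕ)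
      · rw [el_mul, el_pow]; exact mul_mem (pow_mem hr1 (j : ℕ)) hk
    rw [← h.sup_eq_top hne, sup_eq_right.2 hAN]
  -- a Sylow 2-subgroup of `N` through the centre has order 2
  set zN : N := ⟨_, hz⟩ with hzN
  have hz2 : orderOf zN = 2 := by rw [← orderOf_coe]; exact (orderOf_el e _).trans orderOf_z
  obtain ⟨P, hP⟩ := (IsPGroup.of_card (n := 1) (by rw [Nat.card_zpowers, hz2, pow_one]) :
    IsPGroup 2 (zpowers zN)).exists_le_sylow
  have hzP : zN ∈ (P : Subgroup N) := hP (mem_zpowers _)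
  have key : ∀ p ∈ (P : Subgroup N), p * zN = zN * p → p = 1 ∨ p = zN := by
    intro p hp hpz
    obtain ⟨k, hk⟩ := exists_el e ((cent_z h e).le (mem_cent_iff.2 (congrArg Subtype.val hpz)))
    obtain ⟨i, rfl⟩ := hrot k (hk ▸ p.2)
    obtain ⟨j, hj⟩ := P.2 ⟨p, hp⟩
    have hj' : orderOf (DihedralGroup.r i : DihedralGroup 6) ∣ 2 ^ j := by
      rw [← orderOf_el e, hk, orderOf_coe]
      exact orderOf_dvd_of_pow_eq_one (congrArg Subtype.val hj)
    have key6 : ∀ i : ZMod 6, (DihedralGroup.r i : DihedralGroup 6) ^ 6 = 1 := by decide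
    have h6 : orderOf (DihedralGroup.r i : DihedralGroup 6) ∣ 6 := orderOf_dvd_of_pow_eq_one (key6 i)
    have h2 : (DihedralGroup.r i : DihedralGroup 6) ^ 2 = 1 := by
      refine orderOf_dvd_iff_pow_eq_one.1 ?_
      obtain ⟨l, -, hl⟩ := (Nat.dvd_prime_pow Nat.prime_two).1 hj'
      rw [hl] at h6 ⊢
      rcases l with _ | _ | l
      · exact one_dvd _
      · exact dvd_rfl
      · exact absurd ((pow_dvd_pow 2 (show 2 ≤ l + 1 + 1 by omega)).trans h6) (by norm_num)
    have key2 : ∀ i : ZMod 6, (DihedralGroup.r i : DihedralGroup 6) ^ 2 = 1 → i = 0 ∨ i = 3 := by decide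
    rcases key2 i h2 with q | q <;> subst q
    · exact Or.inl (Subtype.ext (by rw [← hk]; simp [el]))
    · exact Or.inr (Subtype.ext hk.symm)
  haveI : Nontrivial (P : Subgroup N) := (nontrivial_iff_ne_bot _).2 fun q => by
    rw [q, mem_bot] at hzP
    rw [hzP, orderOf_one] at hz2
    omega
  haveI := P.2.center_nontrivial
  obtain ⟨⟨w, hwc⟩, hw1⟩ := exists_ne (1 : center (P : Subgroup N))
  have hw := (key w w.2 (congrArg Subtype.val (mem_center_iff.1 hwc ⟨zN, hzP⟩)).symm).resolve_left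
    fun q => hw1 (Subtype.ext (Subtype.ext q))
  have hall : ∀ p ∈ (P : Subgroup N), p = 1 ∨ p = zN := fun p hp => key p hp (by
    have := congrArg Subtype.val (mem_center_iff.1 hwc ⟨p, hp⟩)
    rw [Subgroup.coe_mul, Subgroup.coe_mul, hw] at this
    exact this)
  have hPz : (P : Subgroup N) = zpowers zN := le_antisymm (fun p hp => by
    rcases hall p hp with q | q <;> rw [q]
    · exact one_mem _
    · exact mem_zpowers _) hP
  have h4 : Nat.card N % 4 = 2 := by
    have h1 := P.not_dvd_index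
    have h2 := (P : Subgroup N).card_mul_index
    rw [hPz, Nat.card_zpowers, hz2] at h2
    rw [hPz] at h1
    omega
  exact h.normal_not_solvable hne (HallNumber.isSolvable_of_two h4)

/-- The simple case. -/
theorem case_simple [IsSimpleGroup G] :
    Nonempty (G ≃* Matrix.ProjectiveSpecialLinearGroup (Fin 2) (ZMod 11)) ∨
      Nonempty (G ≃* Matrix.ProjectiveSpecialLinearGroup (Fin 2) (ZMod 13)) := by
  classical
  haveI : Fact (Nat.Prime 2) := ⟨Nat.prime_two⟩
  haveI := Fintype.ofFinite G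
  set z := el e (DihedralGroup.r 3) with hzdef
  set b := el e (DihedralGroup.sr 0) with hbdef
  have hz2 : orderOf z = 2 := by rw [hzdef, orderOf_el, orderOf_z]
  have hO := pResidual_eq_top_of_insoluble h.insol
  let V : Subgroup (DihedralGroup 6) :=
    { carrier := {k | k = 1 ∨ k = DihedralGroup.r 3 ∨ k = DihedralGroup.sr 0 ∨ k = DihedralGroup.sr 3}
      one_mem' := Or.inl rfl
      mul_mem' := fun {a b} ha hb => (by decide : ∀ a b : DihedralGroup 6,
        (a = 1 ∨ a = DihedralGroup.r 3 ∨ a = DihedralGroup.sr 0 ∨ a = DihedralGroup.sr 3) →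
        (b = 1 ∨ b = DihedralGroup.r 3 ∨ b = DihedralGroup.sr 0 ∨ b = DihedralGroup.sr 3) →
        (a * b = 1 ∨ a * b = DihedralGroup.r 3 ∨ a * b = DihedralGroup.sr 0 ∨ a * b = DihedralGroup.sr 3)) a b ha hb
      inv_mem' := fun {a} ha => (by decide : ∀ a : DihedralGroup 6,
        (a = 1 ∨ a = DihedralGroup.r 3 ∨ a = DihedralGroup.sr 0 ∨ a = DihedralGroup.sr 3) →
        (a⁻¹ = 1 ∨ a⁻¹ = DihedralGroup.r 3 ∨ a⁻¹ = DihedralGroup.sr 0 ∨ a⁻¹ = DihedralGroup.sr 3)) a ha }
  have hV : Nat.card V = 4 := by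
    rw [Nat.card_congr (Equiv.subtypeEquivRight (p := (· ∈ V)) (q := fun k : DihedralGroup 6 =>
      k = 1 ∨ k = DihedralGroup.r 3 ∨ k = DihedralGroup.sr 0 ∨ k = DihedralGroup.sr 3) fun _ => Iff.rfl),
      Nat.card_eq_fintype_card]
    decide
  set C := push e V
  have hC4 : Nat.card C = 4 := (card_push e V).trans hV
  obtain ⟨P, hP⟩ := (IsPGroup.of_card (n := 2) (by rw [hC4]; rfl) : IsPGroup 2 C).exists_le_sylow
  have hzC : z ∈ C := coe_symm_mem_push e V (Or.inr (Or.inl rfl))
  have hbC : b ∈ C := coe_symm_mem_push e V (Or.inr (Or.inr (Or.inl rfl)))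
  have hcent : Nat.card ((P : Subgroup G) ⊓ centralizer ({z} : Set G) : Subgroup G) = 4 := by
    rw [cent_z h e]
    have hle : C ≤ (P : Subgroup G) ⊓ A := le_inf hP (push_le e V)
    obtain ⟨k, hk⟩ := (P.2.to_le (inf_le_left : (P : Subgroup G) ⊓ A ≤ _)).exists_card_eq
    have h1 : 2 ^ k ∣ 12 := by
      rw [← hk, show 12 = Nat.card A by rw [Nat.card_congr e.toEquiv, DihedralGroup.nat_card]]
      exact card_dvd_of_le inf_le_right
    have h2 := Nat.le_of_dvd Nat.card_pos (card_dvd_of_le hle)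
    rw [hC4, hk] at h2
    rw [hk]
    rcases k with _ | _ | _ | k
    · omega
    · norm_num at h2
    · rfl
    · exact absurd ((pow_dvd_pow 2 (show 3 ≤ k + 1 + 1 + 1 by omega)).trans h1) (by norm_num)
  have hP4 : Nat.card (P : Subgroup G) = 4 := by
    by_contra h4
    obtain ⟨-, x, hx, hcx⟩ := exists_cyclic_half P hz2 (hP hzC) hcent h4
    obtain ⟨g, hg⟩ := exists_central_conj hO P hx hcx hz2 (hP hzC)
    have h1 : centralizer ({g * z * g⁻¹} : Set G) ≤ (centralizer ({z} : Set G)).map (MulAut.conj g).toMonoidHom :=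
      fun y hy => ⟨g⁻¹ * y * g, mem_cent_iff.2 (by
        calc g⁻¹ * y * g * z = g⁻¹ * (y * (g * z * g⁻¹)) * g := by group
          _ = g⁻¹ * (g * z * g⁻¹ * y) * g := by rw [mem_cent_iff.1 hy]
          _ = z * (g⁻¹ * y * g) := by group), by simp [MulAut.conj_apply]; group⟩
    have h2 := card_dvd_of_le (hg.trans h1)
    rw [card_map_of_injective (MulAut.conj g).injective, cent_z h e, Nat.card_congr e.toEquiv,
      DihedralGroup.nat_card] at h2
    obtain ⟨k, hk⟩ := P.2.exists_card_eq
    have h3 := card_dvd_of_le hP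
    rw [hC4, hk] at h3
    rw [hk] at h2 h4
    rcases k with _ | _ | _ | k
    · norm_num at h3
    · norm_num at h3
    · exact h4 rfl
    · exact absurd ((pow_dvd_pow 2 (show 3 ≤ k + 1 + 1 + 1 by omega)).trans h2) (by norm_num)
  have hPC : C = (P : Subgroup G) := eq_of_le_of_card_ge hP (by rw [hP4, hC4])
  have hconjz : ∀ k : DihedralGroup 6, k ∈ V → k ≠ 1 → IsConj z (el e k) := by
    intro k hk hk1
    have hk2 : orderOf (el e k) = 2 := by
      rw [orderOf_el]
      refine orderOf_eq_prime ?_ hk1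
      rcases hk with rfl | rfl | rfl | rfl <;> decide
    have hle : zpowers (el e k) ≤ (P : Subgroup G) := zpowers_le.2 (hP (coe_symm_mem_push e V hk))
    have hidx : (zpowers (el e k)).relIndex (P : Subgroup G) = 2 := by
      have h1 := card_mul_index ((zpowers (el e k)).subgroupOf (P : Subgroup G))
      rw [Nat.card_congr (subgroupOfEquivOfLe hle).toEquiv, Nat.card_zpowers, hk2, hP4] at h1
      show ((zpowers (el e k)).subgroupOf (P : Subgroup G)).index = 2
      omega
    obtain ⟨g, hg⟩ := Transfer.exists_conj_mem_of_pResidual_eq_top P (zpowers (el e k)) hle hidx hO z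
      (by rw [← hz2, pow_orderOf_eq_one]) (hP hzC)
    have h2 : orderOf (g * z * g⁻¹) = 2 := by rw [← hz2]; exact (MulAut.conj g).orderOf_eq z
    exact isConj_iff.2 ⟨g, EvenCyclicNorm.involution_unique h2 hk2 hg (mem_zpowers _)⟩
  have hconj : ∀ x y : G, orderOf x = 2 → orderOf y = 2 → IsConj x y := by
    suffices hs : ∀ x : G, orderOf x = 2 → IsConj z x from fun x y hx hy => (hs x hx).symm.trans (hs y hy)
    intro x hx
    obtain ⟨Q, hQ⟩ := (IsPGroup.of_card (n := 1) (by rw [Nat.card_zpowers, hx, pow_one]) :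
      IsPGroup 2 (zpowers x)).exists_le_sylow
    obtain ⟨g, hg⟩ := MulAction.exists_smul_eq G Q P
    have hgx : g * x * g⁻¹ ∈ C := by
      rw [hPC, ← hg]
      exact ⟨x, hQ (mem_zpowers x), rfl⟩
    obtain ⟨hA', hV'⟩ := (mem_push e V).1 hgx
    have h1 : el e (e ⟨_, hA'⟩) = g * x * g⁻¹ := by simp [el]
    have h3 : e ⟨_, hA'⟩ ≠ 1 := fun q => by
      rw [q] at h1
      have : g * x * g⁻¹ = 1 := by rw [← h1]; simp [el]
      rw [conj_eq_one_iff] at this
      rw [this, orderOf_one] at hx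
      omega
    have h4 := hconjz _ hV' h3
    rw [h1] at h4
    exact h4.trans (isConj_iff.2 ⟨g, rfl⟩).symm
  set K := push e (zpowers (DihedralGroup.r 1 : DihedralGroup 6)) with hK
  have hKmem : ∀ x, x ∈ K → ∃ i, x = el e (DihedralGroup.r i) := by
    intro x hx
    obtain ⟨hxA, hm⟩ := (mem_push e _).1 hx
    obtain ⟨n, hn⟩ := hm
    refine ⟨(n : ZMod 6), ?_⟩
    rw [← DihedralGroup.r_one_zpow, show (DihedralGroup.r 1 : DihedralGroup 6) ^ n = e ⟨x, hxA⟩ from hn]
    simp [el]
  have hKr : ∀ i : ZMod 6, el e (DihedralGroup.r i) ∈ K := fun i =>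
    coe_symm_mem_push e _ ⟨(i.val : ℤ), by simp [DihedralGroup.r_one_zpow]⟩
  have hTI : ∀ g : G, g ∉ centralizer ({z} : Set G) → K ⊓ K.map (MulAut.conj g).toMonoidHom = ⊥ := by
    intro g hg
    rw [eq_bot_iff]
    intro y hy
    obtain ⟨y', hy', hyy⟩ := (mem_inf.1 hy).2
    obtain ⟨i, hi⟩ := hKmem y (mem_inf.1 hy).1
    obtain ⟨j, hj⟩ := hKmem y' hy'
    rw [mem_bot]
    by_contra hy1
    have hc : g * el e (DihedralGroup.r j) * g⁻¹ = el e (DihedralGroup.r i) := by rw [← hi, ← hj]; exact hyy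
    have key : ∀ i : ZMod 6, i = 0 ∨ (DihedralGroup.r i : DihedralGroup 6) ^ 3 = DihedralGroup.r 3 ∨
        ((DihedralGroup.r i : DihedralGroup 6) ^ 3 = 1 ∧ (i = 2 ∨ i = 4)) := by decide
    have hi0 : i ≠ 0 := fun q => hy1 (by rw [hi, q]; simp [el])
    have hj0 : j ≠ 0 := fun q => hi0 (by
      have : el e (DihedralGroup.r i) = el e (DihedralGroup.r 0) := by rw [← hc, q]; simp [el]
      exact DihedralGroup.r.inj (el_inj e this))
    have hpow : (g * el e (DihedralGroup.r j) * g⁻¹) ^ 3 = el e ((DihedralGroup.r i) ^ 3) := by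
      rw [hc, el_pow]
    rw [conj_pow, ← el_pow] at hpow
    rcases (key j).resolve_left hj0 with qj | ⟨qj, qj'⟩ <;> rcases (key i).resolve_left hi0 with qi | ⟨qi, qi'⟩ <;>
      rw [qj, qi] at hpow
    · exact hg (mem_cent_iff.2 (mul_inv_eq_iff_eq_mul.1 hpow))
    · rw [show el e (1 : DihedralGroup 6) = 1 by simp [el], conj_eq_one_iff] at hpow
      exact absurd hpow (fun q => by rw [← orderOf_eq_one_iff, orderOf_el, orderOf_z] at q; omega)
    · rw [show el e (1 : DihedralGroup 6) = 1 by simp [el], mul_one, mul_inv_cancel] at hpow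
      exact absurd hpow.symm (fun q => by rw [← orderOf_eq_one_iff, orderOf_el, orderOf_z] at q; omega)
    · refine hg ((cent_z h e).ge ?_)
      refine (h.normalizer_eq (zpowers_le.2 (el_mem e (DihedralGroup.r 2))) (fun hb => by
        rw [zpowers_eq_bot, ← orderOf_eq_one_iff, orderOf_el, orderOf_two] at hb; omega)
        (le_normalizer_two e)).le (mem_normalizer_zpowers_self ?_)
      have h4 : el e (DihedralGroup.r 4) = el e (DihedralGroup.r 2) * el e (DihedralGroup.r 2) := by
        rw [← el_mul]; congr 1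
      have hi2 : el e (DihedralGroup.r i) ∈ zpowers (el e (DihedralGroup.r 2)) := by
        rcases qi' with rfl | rfl
        · exact mem_zpowers _
        · rw [h4]; exact mul_mem (mem_zpowers _) (mem_zpowers _)
      rcases qj' with rfl | rfl
      · rw [hc]; exact hi2
      · have h22 : el e (DihedralGroup.r 2) = el e (DihedralGroup.r 4) * el e (DihedralGroup.r 4) := by
          rw [← el_mul]; congr 1
        rw [h22, ← conj_mul, hc]
        rw [← h22]
        exact mul_mem hi2 hi2
  let cfg : BSW.Config G :=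
    { t := z
      K := K
      s := b
      ht := hz2
      comm := fun x hx y hy => by
        obtain ⟨i, rfl⟩ := hKmem x hx
        obtain ⟨j, rfl⟩ := hKmem y hy
        rw [← el_mul, ← el_mul, DihedralGroup.r_mul_r, DihedralGroup.r_mul_r, add_comm]
      hKH := (cent_z h e).ge.trans' (push_le e _)
      htK := hKr 3
      hs := by
        rw [hbdef, orderOf_el]
        exact orderOf_eq_prime (by decide) (by decide)
      hsH := (cent_z h e).ge (el_mem e _)
      hsK := fun hb => by
        obtain ⟨i, hi⟩ := hKmem b hb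
        exact absurd (el_inj e hi) (by simp)
      hH := by
        rw [cent_z h e]
        refine le_antisymm (sup_le (push_le e _) (zpowers_le.2 (el_mem e _))) fun a ha => ?_
        obtain ⟨k, rfl⟩ := exists_el e ha
        cases k with
        | r i => exact le_sup_left (α := Subgroup G) (hKr i)
        | sr i =>
          rw [show (DihedralGroup.sr i : DihedralGroup 6) = DihedralGroup.sr 0 * DihedralGroup.r i by
            rw [DihedralGroup.sr_mul_r, zero_add], el_mul]
          exact mul_mem (le_sup_right (α := Subgroup G) (mem_zpowers _)) (le_sup_left (α := Subgroup G) (hKr i))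
      hCK := by
        refine le_antisymm (fun x hx => ?_) (zpowers_le.2 (mem_inf.2 ⟨hKr 3, mem_cent_iff.2 ?_⟩))
        · obtain ⟨i, rfl⟩ := hKmem x (mem_inf.1 hx).1
          have h1 := mem_cent_iff.1 (mem_inf.1 hx).2
          rw [hbdef, ← el_mul, ← el_mul] at h1
          have key : ∀ i : ZMod 6, (DihedralGroup.r i : DihedralGroup 6) * DihedralGroup.sr 0 =
              DihedralGroup.sr 0 * DihedralGroup.r i → i = 0 ∨ i = 3 := by decide
          rcases key i (el_inj e h1) with rfl | rfl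
          · rw [show el e (DihedralGroup.r 0) = 1 by simp [el]]; exact one_mem _
          · exact mem_zpowers _
        · rw [hbdef, hzdef, ← el_mul, ← el_mul, z_comm]
      hinv := fun x hx => by
        obtain ⟨i, rfl⟩ := hKmem x hx
        have key : ∀ i : ZMod 6, (DihedralGroup.sr 0 : DihedralGroup 6) * DihedralGroup.r i *
            (DihedralGroup.sr 0)⁻¹ = (DihedralGroup.r i)⁻¹ := by decide
        have := congrArg (el e) (key i)
        simp only [el_mul, el_inv] at this
        exact this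
      hTI := hTI
      hconj := hconj }
  obtain ⟨Q, D, hG, hQC, -, hD, hQD, hN, -⟩ := cfg.conclusion
  have h5 : 5 ≤ Nat.card Q := by
    by_contra hlt
    have hpos : 0 < Nat.card G := Nat.card_pos
    have hodd : Nat.card Q = 1 ∨ Nat.card Q = 3 := by omega
    rcases hodd with q | q <;> rw [q] at hG
    · omega
    · exact h.insol (CharInt.isSolvable_of_card_eq (a := 2) (b := 1) Nat.prime_two Nat.prime_three (by omega))
  obtain ⟨F, _, _, hodd, ⟨φ⟩⟩ := BSW.DihedralTI.exists_psl hG hQC hD hQD hN h5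
  -- `A` is a maximal subgroup of order 12
  obtain ⟨p, hp⟩ := CharP.exists F
  haveI := hp
  obtain ⟨n, hpr, hFcard⟩ := FiniteField.card F p
  haveI := Fact.mk hpr
  have hF5 : 5 ≤ Fintype.card F := by
    by_contra hlt
    have h1 := Fintype.one_lt_card (α := F)
    obtain ⟨t, ht⟩ := hodd
    have h3 : Fintype.card F = 3 := by omega
    refine h.insol (CharInt.isSolvable_of_card_eq (a := 2) (b := 1) Nat.prime_two Nat.prime_three ?_)
    rw [Nat.card_congr φ.toEquiv, PSL2.card_PSL, h3]
    rfl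
  set M := φ.mapSubgroup A
  have hM : IsCoatom M := (OrderIso.isCoatom_iff φ.mapSubgroup A).2 h.max
  let eM : M ≃* DihedralGroup 6 := (A.equivMapOfInjective φ.toMonoidHom φ.injective).symm.trans e
  have hMc : Nat.card M = 12 := by rw [Nat.card_congr eM.toEquiv, DihedralGroup.nat_card]
  have key : ∀ q : ℕ, q.Prime → Fintype.card F = q →
      Nonempty (G ≃* Matrix.ProjectiveSpecialLinearGroup (Fin 2) (ZMod q)) := fun q hq hc => by
    haveI := Fact.mk hq
    exact ⟨φ.trans (PSL2.pslCongr (ZMod.ringEquivOfPrime F hq hc).symm)⟩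
  rcases PSL2.Maximal.classify_odd p hodd hF5 hM (S0799.result rfl p M) with
    h' | ⟨-, k, hk, ⟨ψ⟩⟩ | ⟨-, -, k, hk, ⟨ψ⟩⟩ | ⟨F₀, _, _, hq, ⟨ψ⟩⟩ | ⟨F₀, _, _, r, hr, -, hq, ⟨ψ⟩⟩ |
      ⟨-, -, ⟨ψ⟩⟩ | ⟨-, -, -, ⟨ψ⟩⟩ | ⟨-, -, ⟨ψ⟩⟩
  · exfalso
    rw [hMc] at h'
    have : Fintype.card F < 6 := by
      by_contra hge
      have := Nat.mul_le_mul (show 6 ≤ Fintype.card F by omega) (show 5 ≤ Fintype.card F - 1 by omega)
      omega
    rw [show Fintype.card F = 5 by omega] at h'
    omega
  · refine Or.inr (key 13 (by norm_num) ?_)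
    rw [Nat.card_congr ψ.toEquiv, DihedralGroup.nat_card] at hMc
    omega
  · refine Or.inl (key 11 (by norm_num) ?_)
    rw [Nat.card_congr ψ.toEquiv, DihedralGroup.nat_card] at hMc
    omega
  · exfalso
    rw [Nat.card_congr ψ.toEquiv, PSL2.Maximal.card_pgl'] at hMc
    have h2 := Fintype.one_lt_card (α := F₀)
    have : Fintype.card F₀ < 3 := by
      by_contra hge
      have h9 : 9 ≤ Fintype.card F₀ ^ 2 := by nlinarith
      have := Nat.mul_le_mul (show 3 ≤ Fintype.card F₀ by omega) (show 8 ≤ Fintype.card F₀ ^ 2 - 1 by omega)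
      omega
    rw [show Fintype.card F₀ = 2 by omega] at hMc
    norm_num at hMc
  · exfalso
    have hodd0 : Odd (Fintype.card F₀) := by
      rw [hq] at hodd
      exact (Nat.odd_pow_iff hr.ne_zero).1 hodd
    rw [Nat.card_congr ψ.toEquiv, PSL2.card_PSL] at hMc
    have h2 := Fintype.one_lt_card (α := F₀)
    obtain ⟨t, ht⟩ := hodd0
    rw [Nat.gcd_eq_left (show 2 ∣ Fintype.card F₀ - 1 by omega)] at hMc
    have h3 : Fintype.card F₀ = 3 := by
      by_contra hne
      have h25 : 5 ^ 2 ≤ Fintype.card F₀ ^ 2 := Nat.pow_le_pow_left (by omega) 2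
      have := Nat.mul_le_mul (show 5 ≤ Fintype.card F₀ by omega) (show 24 ≤ Fintype.card F₀ ^ 2 - 1 by omega)
      omega
    obtain ⟨ω⟩ := S0251.result h3
    have key4 : ∀ x : alternatingGroup (Fin 4), x ^ 2 = 1 ∨ x ^ 3 = 1 := by decide +kernel
    have h6 := key4 ((eM.symm.trans (ψ.trans ω)) (DihedralGroup.r 1))
    rw [← map_pow, ← map_pow, MulEquiv.map_eq_one_iff, MulEquiv.map_eq_one_iff] at h6
    revert h6; decide
  · rw [Nat.card_congr ψ.toEquiv, nat_card_alternatingGroup, Nat.card_fin] at hMc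
    norm_num [Nat.factorial] at hMc
  · exfalso
    have key4 : ∀ x : alternatingGroup (Fin 4), x ^ 2 = 1 ∨ x ^ 3 = 1 := by decide +kernel
    have h6 := key4 ((eM.symm.trans ψ) (DihedralGroup.r 1))
    rw [← map_pow, ← map_pow, MulEquiv.map_eq_one_iff, MulEquiv.map_eq_one_iff] at h6
    revert h6; decide
  · rw [Nat.card_congr ψ.toEquiv, Nat.card_perm, Nat.card_fin] at hMc
    norm_num [Nat.factorial] at hMc

/-- Dihedral stabiliser of order 12. -/
theorem case_d12 :
    Nonempty (G ≃* alternatingGroup (Fin 5)) ∨ Nonempty (G ≃* Equiv.Perm (Fin 5)) ∨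
      Nonempty (G ≃* GL (Fin 2) (ZMod 7) ⧸ Subgroup.center (GL (Fin 2) (ZMod 7))) ∨
      Nonempty (G ≃* Matrix.ProjectiveSpecialLinearGroup (Fin 2) (ZMod 11)) ∨
      Nonempty (G ≃* Matrix.ProjectiveSpecialLinearGroup (Fin 2) (ZMod 13)) := by
  by_cases hex : ∃ N : Subgroup G, N.Normal ∧ N ≠ ⊥ ∧ el e (DihedralGroup.r 3) ∉ N
  · obtain ⟨N, hN, hne, hz⟩ := hex
    haveI := hN
    rcases case_normal h e N hne hz with q | q | q
    · exact Or.inl q
    · exact Or.inr (Or.inl q)
    · exact Or.inr (Or.inr (Or.inl q))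
  · push Not at hex
    haveI : Nontrivial G := ⟨⟨el e (DihedralGroup.r 3), 1, fun q => by
      rw [← orderOf_eq_one_iff, orderOf_el, orderOf_z] at q; omega⟩⟩
    haveI : IsSimpleGroup G := ⟨fun N hN => by
      by_cases hne : N = ⊥
      · exact Or.inl hne
      · haveI := hN
        exact Or.inr (eq_top_of_z_mem h e N (hex N hN hne))⟩
    exact Or.inr (Or.inr (Or.inr (case_simple h e)))

end Cfsg.Agent.SuborbitThree
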