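import Cfsg.Agent.Lib.Order7920.Points
import Mathlib.Data.Finset.Powerset

/-!
# No maximal subgroup of order 24 in a simple group of order 7920

Such a subgroup would be the full stabiliser of one, or of three, of the eleven points, and there are
fewer than 330 such sets.
-/

set_option autoImplicit false
set_option linter.style.haveILetI false

namespace Cfsg.Agent.SuborbitThree

open Subgroup MulAction
open scoped Pointwise

variable {G : Type*} [Group G] [Finite G] [IsSimpleGroup G]

theorem no_coatom_twenty_four (hG : Nat.card G = 7920) {A : Subgroup G} (hA : IsCoatom A)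
    (h24 : Nat.card A = 24) : False := by
  classical
  haveI := Fintype.ofFinite G
  haveI : Fact (Nat.Prime 3) := ⟨Nat.prime_three⟩
  haveI : Fact (Nat.Prime 2) := ⟨Nat.prime_two⟩
  haveI := Fintype.ofFinite (Order7920.Pt G)
  haveI h4 := Order7920.pt_four_pretransitive hG
  haveI : IsPretransitive G (Order7920.Pt G) :=
    is_one_pretransitive_iff.1 (isMultiplyPretransitive_of_le (n := 4) (by norm_num) (by
      rw [Order7920.card_pts hG]; norm_num))
  obtain ⟨C, hC⟩ := Sylow.exists_subgroup_card_pow_prime (G := A) 2 (n := 3) (by rw [h24]; norm_num)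
  have hfix : (fixedPoints C (Order7920.Pt G)).Nonempty := by
    refine (IsPGroup.of_card (n := 3) hC).nonempty_fixed_point_of_prime_not_dvd_card _ ?_
    rw [Order7920.card_pts hG]; norm_num
  obtain ⟨p, hp⟩ := hfix
  have hle : C ≤ stabilizer A p := fun c hc => hp ⟨c, hc⟩
  set O : Finset (Order7920.Pt G) := (orbit A p).toFinset
  have hOcard : O.card = Nat.card (orbit A p) := by
    rw [Nat.card_eq_fintype_card, Set.toFinset_card]
  have hk : O.card ≤ 3 := by
    have h1 := card_mul_index (stabilizer A p)
    rw [index_stabilizer, ← Nat.card_coe_set_eq, ← hOcard, h24] at h1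
    have h2 := Nat.le_of_dvd Nat.card_pos (card_dvd_of_le hle)
    rw [hC] at h2
    have := Nat.mul_le_mul_right O.card h2
    omega
  have hk1 : 1 ≤ O.card := Finset.card_pos.2 ⟨p, by simp [O]⟩
  have hAS : A ≤ stabilizer G O := by
    intro a ha
    rw [mem_stabilizer_iff]
    ext q
    have h1 : ∀ b ∈ A, ∀ r, r ∈ orbit A p → b • r ∈ orbit A p := fun b hb r hr =>
      mem_orbit_of_mem_orbit (M := A) ⟨b, hb⟩ hr
    simp only [O, Set.mem_toFinset, Finset.mem_smul_finset]
    constructor
    · rintro ⟨r, hr, rfl⟩
      exact h1 a ha r hr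
    · exact fun hq => ⟨a⁻¹ • q, h1 _ (inv_mem ha) q hq, smul_inv_smul a q⟩
  have hne : stabilizer G O ≠ ⊤ := fun htop => by
    have : O = Finset.univ := Finset.eq_univ_of_forall fun q => by
      obtain ⟨g, rfl⟩ := exists_smul_eq G p q
      rw [← mem_stabilizer_iff.1 (htop ▸ mem_top g : g ∈ stabilizer G O)]
      exact Finset.smul_mem_smul_finset (by simp [O])
    rw [this, Finset.card_univ, ← Nat.card_eq_fintype_card, Order7920.card_pts hG] at hk
    omega
  have hEq : stabilizer G O = A := by
    rcases hAS.eq_or_lt with e | e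
    · exact e.symm
    · exact absurd (hA.2 _ e) hne
  have hidx : (stabilizer G O).index = 330 := by
    have h1 := card_mul_index (stabilizer G O)
    rw [hG, hEq, h24] at h1
    rw [hEq]
    omega
  rw [index_stabilizer] at hidx
  have hsub : orbit G O ⊆ ((Finset.univ.powersetCard O.card : Finset (Finset (Order7920.Pt G))) : Set _) := by
    rintro _ ⟨g, rfl⟩
    simp [Finset.card_smul_finset]
  have h2 := Set.ncard_le_ncard hsub (Finset.finite_toSet _)
  rw [hidx, Set.ncard_coe_finset, Finset.card_powersetCard, Finset.card_univ, ← Nat.card_eq_fintype_card,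
    Order7920.card_pts hG] at h2
  interval_cases h : O.card <;> norm_num [Nat.choose] at h2

end Cfsg.Agent.SuborbitThree
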