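import Cfsg.Agent.Lib.SuborbitThree.Setting
import Cfsg.Agent.Lib.PGroup.Basic
import Mathlib.GroupTheory.Sylow

/-!
# No normal subgroup meeting the stabiliser trivially

If a 2-subgroup `V` normal in the stabiliser has its centraliser inside it, a normal subgroup meeting the
stabiliser trivially is trivial: it has odd order, and the stabiliser normalises one of its Sylow subgroups.
-/

set_option autoImplicit false
set_option linter.style.haveILetI false
set_option linter.unusedSectionVars false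

namespace Cfsg.Agent.SuborbitThree

open Subgroup

variable {G : Type*} [Group G] [Finite G] {A : Subgroup G}

theorem odd_of_inf_eq_bot (N : Subgroup G) [N.Normal] (hNA : N ⊓ A = ⊥) {V : Subgroup G}
    (hV2 : IsPGroup 2 V) (hCV : centralizer (V : Set G) ≤ A) : ¬ 2 ∣ Nat.card N := by
  haveI : Fact (Nat.Prime 2) := ⟨Nat.prime_two⟩
  intro h2
  obtain ⟨P, hP⟩ := hV2.exists_le_sylow
  obtain ⟨t, ht⟩ := exists_prime_orderOf_dvd_card' (G := N) 2 h2
  obtain ⟨Q, hQ⟩ := (IsPGroup.of_card (n := 1) (by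
    rw [Nat.card_zpowers, orderOf_coe, ht, pow_one]) : IsPGroup 2 (zpowers (t : G))).exists_le_sylow
  obtain ⟨g, hg⟩ := MulAction.exists_smul_eq G Q P
  have hgt : g * (t : G) * g⁻¹ ∈ (P : Subgroup G) := hg ▸ ⟨t, hQ (mem_zpowers _), rfl⟩
  have hne : N.subgroupOf (P : Subgroup G) ≠ ⊥ := fun hb => by
    have h1 : (⟨_, hgt⟩ : (P : Subgroup G)) ∈ N.subgroupOf (P : Subgroup G) :=
      (inferInstance : N.Normal).conj_mem _ t.2 g
    rw [hb, mem_bot] at h1
    have h1' : g * (t : G) * g⁻¹ = 1 := congrArg Subtype.val h1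
    rw [conj_eq_one_iff, OneMemClass.coe_eq_one] at h1'
    rw [h1', orderOf_one] at ht
    exact absurd ht (by norm_num)
  obtain ⟨z, hzN, hzc, hzo⟩ := PGroup.exists_orderOf_eq_mem_center P.2 (N.subgroupOf (P : Subgroup G)) hne
  have hz : (z : G) ∈ N ⊓ A := ⟨hzN, hCV (mem_centralizer_iff.2 fun v hv =>
    congrArg Subtype.val (mem_center_iff.1 hzc ⟨v, hP hv⟩))⟩
  rw [hNA, mem_bot, OneMemClass.coe_eq_one] at hz
  rw [hz, orderOf_one] at hzo
  exact absurd hzo (by norm_num)

theorem Prim.eq_bot_of_inf_eq_bot (h : Prim A) (N : Subgroup G) [N.Normal] (hNA : N ⊓ A = ⊥)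
    {V : Subgroup G} (hVA : V ≤ A) (hV2 : IsPGroup 2 V) (hne : V ≠ ⊥) (hAV : A ≤ normalizer (V : Set G))
    (hCV : centralizer (V : Set G) ≤ A) : N = ⊥ := by
  haveI : Fact (Nat.Prime 2) := ⟨Nat.prime_two⟩
  have hNV := h.normalizer_eq hVA hne hAV
  have hodd : ¬ 2 ∣ Nat.card N := odd_of_inf_eq_bot N hNA hV2 hCV
  by_contra hN
  obtain ⟨p, hp, hpd⟩ := Nat.exists_prime_and_dvd (fun e : Nat.card N = 1 => hN (card_eq_one.1 e))
  haveI := Fact.mk hp
  obtain ⟨U0⟩ : Nonempty (Sylow p N) := inferInstance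
  have hU0 : (U0 : Subgroup N).map N.subtype ≠ ⊥ := fun e => by
    rw [map_eq_bot_iff_of_injective _ N.subtype_injective] at e
    exact U0.ne_bot_of_dvd_card hpd e
  have hfr : normalizer ((U0 : Subgroup N).map N.subtype : Set G) ⊔ N = ⊤ := Sylow.normalizer_sup_eq_top U0
  -- a conjugate normalised by `V`
  obtain ⟨U, hUN, hUp, hUne, hVU, htop⟩ : ∃ U : Subgroup G, U ≤ N ∧ IsPGroup p U ∧ U ≠ ⊥ ∧
      V ≤ normalizer (U : Set G) ∧ normalizer (U : Set G) ⊔ N = ⊤ := by
    set U := (U0 : Subgroup N).map N.subtype with hU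
    set H := normalizer (U : Set G)
    obtain ⟨Q⟩ : Nonempty (Sylow 2 H) := inferInstance
    have hfac : (Nat.card G).factorization 2 ≤ (Nat.card H).factorization 2 := by
      have h1 := relIndex_sup_left (H := H) (K := N)
      rw [show N ⊔ H = ⊤ by rw [sup_comm]; exact hfr, relIndex_top_right] at h1
      have h2 : N.index ∣ Nat.card H := h1 ▸ (N.subgroupOf H).index_dvd_card
      rw [← card_mul_index N, Nat.factorization_mul Nat.card_pos.ne' index_ne_zero_of_finite, Finsupp.add_apply,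
        Nat.factorization_eq_zero_of_not_dvd hodd, zero_add]
      exact (Nat.factorization_le_iff_dvd index_ne_zero_of_finite Nat.card_pos.ne').2 h2 2
    have hQ : IsPGroup 2 ((Q : Subgroup H).map H.subtype) := Q.2.map _
    obtain ⟨QG, hQG⟩ := hQ.exists_le_sylow
    have hQeq : (Q : Subgroup H).map H.subtype = QG := by
      refine eq_of_le_of_card_ge hQG ?_
      rw [card_map_of_injective H.subtype_injective, Sylow.card_eq_multiplicity, Sylow.card_eq_multiplicity]
      exact Nat.pow_le_pow_right (by norm_num) hfac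
    obtain ⟨P, hP⟩ := hV2.exists_le_sylow
    obtain ⟨g, hg⟩ := MulAction.exists_smul_eq G P QG
    refine ⟨U.map (MulAut.conj g⁻¹).toMonoidHom, ?_, (U0.2.map _).map _, ?_, ?_, ?_⟩
    · rintro _ ⟨u, hu, rfl⟩
      exact (inferInstance : N.Normal).conj_mem _ (map_subtype_le _ hu) g⁻¹
    · rw [Ne, map_eq_bot_iff_of_injective _ (MulAut.conj g⁻¹).injective]
      exact hU0
    · refine le_trans ?_ (le_normalizer_map (H := U) (MulAut.conj g⁻¹).toMonoidHom)
      intro v hv
      refine ⟨g * v * g⁻¹, ?_, by simp [mul_assoc]⟩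
      have : g * v * g⁻¹ ∈ (QG : Subgroup G) := hg ▸ ⟨v, hP hv, rfl⟩
      rw [← hQeq] at this
      exact map_subtype_le _ this
    · rw [eq_top_iff]
      intro y _
      obtain ⟨a, ha, b, hb, hab⟩ := mem_sup_of_normal_right.1 (hfr ▸ mem_top (g * y * g⁻¹) :
        g * y * g⁻¹ ∈ H ⊔ N)
      refine mem_sup_of_normal_right.2 ⟨g⁻¹ * a * g, ?_, g⁻¹ * b * g, ?_, ?_⟩
      · exact le_normalizer_map (H := U) (MulAut.conj g⁻¹).toMonoidHom ⟨a, ha, by simp [mul_assoc]⟩
      · have := (inferInstance : N.Normal).conj_mem b hb g⁻¹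
        rwa [inv_inv] at this
      · calc g⁻¹ * a * g * (g⁻¹ * b * g) = g⁻¹ * (a * b) * g := by group
          _ = y := by rw [hab]; group
  set H := normalizer (U : Set G)
  have hAH : A ≤ H := by
    intro a ha
    obtain ⟨n, hn, k, hk, hnk⟩ := mem_sup_of_normal_left.1 (show a ∈ N ⊔ H by rw [sup_comm, htop]; trivial)
    set M := (N ⊔ V) ⊓ H
    have hVM : V ≤ M := le_inf le_sup_right hVU
    have hV'M : V.map (MulAut.conj k).toMonoidHom ≤ M := by
      rintro _ ⟨v, hv, rfl⟩
      refine ⟨?_, mul_mem (mul_mem hk (hVU hv)) (H.inv_mem hk)⟩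
      show k * v * k⁻¹ ∈ N ⊔ V
      have hk' : k = n⁻¹ * a := by rw [← hnk]; group
      rw [hk', show n⁻¹ * a * v * (n⁻¹ * a)⁻¹ = n⁻¹ * (a * v * a⁻¹) * n by group]
      exact mul_mem (mul_mem (le_sup_left (α := Subgroup G) (inv_mem hn)) (le_sup_right (α := Subgroup G)
        ((mem_normalizer_iff.1 (hAV ha) v).1 hv))) (le_sup_left (α := Subgroup G) hn)
    have hcard : (Nat.card M).factorization 2 ≤ (Nat.card V).factorization 2 := by
      have hdj : N ⊓ V = ⊥ := le_bot_iff.1 (hNA ▸ inf_le_inf_left _ hVA)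
      have hNVn : Nat.card (N ⊔ V : Subgroup G) = Nat.card N * Nat.card V := by
        have h1 := card_mul_index (N.subgroupOf (N ⊔ V))
        rw [Nat.card_congr (subgroupOfEquivOfLe le_sup_left).toEquiv] at h1
        rw [← h1]
        congr 1
        show N.relIndex (N ⊔ V) = _
        rw [relIndex_sup_left, ← relIndex_bot_left, ← hdj, inf_relIndex_right]
      have hd : Nat.card M ∣ Nat.card N * Nat.card V := hNVn ▸ card_dvd_of_le inf_le_left
      have h1 := (Nat.factorization_le_iff_dvd Nat.card_pos.ne'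
        (Nat.mul_pos Nat.card_pos Nat.card_pos).ne').2 hd 2
      rwa [Nat.factorization_mul Nat.card_pos.ne' Nat.card_pos.ne', Finsupp.add_apply,
        Nat.factorization_eq_zero_of_not_dvd hodd, zero_add] at h1
    obtain ⟨j, hj⟩ := hV2.exists_card_eq
    have hsyl : ∀ K : Subgroup G, K ≤ M → Nat.card K = Nat.card V →
        Nat.card (K.subgroupOf M) = 2 ^ (Nat.card M).factorization 2 := by
      intro K hK hKV
      rw [Nat.card_congr (subgroupOfEquivOfLe hK).toEquiv, hKV, hj]
      congr 1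
      have h1 : (Nat.card V).factorization 2 ≤ (Nat.card M).factorization 2 :=
        (Nat.factorization_le_iff_dvd Nat.card_pos.ne' Nat.card_pos.ne').2 (card_dvd_of_le hVM) 2
      have h2 : (Nat.card V).factorization 2 = j := by
        rw [hj, Nat.Prime.factorization_pow Nat.prime_two, Finsupp.single_eq_same]
      omega
    obtain ⟨m, hm⟩ := MulAction.exists_smul_eq M
      (Sylow.ofCard _ (hsyl _ hV'M (card_map_of_injective (MulAut.conj k).injective)))
      (Sylow.ofCard _ (hsyl _ hVM rfl))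
    have hmem : (m : G) * k ∈ normalizer (V : Set G) := by
      have hle : V.map (MulAut.conj ((m : G) * k)).toMonoidHom ≤ V := by
        rintro _ ⟨v, hv, rfl⟩
        have h1 : (⟨k * v * k⁻¹, hV'M ⟨v, hv, rfl⟩⟩ : M) ∈
            (V.map (MulAut.conj k).toMonoidHom).subgroupOf M := ⟨v, hv, rfl⟩
        have h2 : m * ⟨k * v * k⁻¹, hV'M ⟨v, hv, rfl⟩⟩ * m⁻¹ ∈ V.subgroupOf M := by
          rw [show V.subgroupOf M = ((Sylow.ofCard _ (hsyl _ hVM rfl) : Sylow 2 M) : Subgroup M) from rfl, ← hm]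
          exact ⟨_, h1, rfl⟩
        have h3 : (m : G) * (k * v * k⁻¹) * (m : G)⁻¹ ∈ V := h2
        simpa [mul_assoc] using h3
      refine mem_normalizer_iff.2 fun v => ⟨fun hv => hle ⟨v, hv, rfl⟩, fun hv => ?_⟩
      rw [← eq_of_le_of_card_ge hle (card_map_of_injective (MulAut.conj ((m : G) * k)).injective).ge] at hv
      obtain ⟨w, hw, hwv⟩ := hv
      rwa [← (MulAut.conj ((m : G) * k)).injective hwv]
    rw [hNV] at hmem
    obtain ⟨n', hn', v, hv, hm'⟩ := mem_sup_of_normal_left.1 m.2.1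
    have hn'' : n' * (v * n⁻¹ * v⁻¹) ∈ N := mul_mem hn'
      ((inferInstance : N.Normal).conj_mem _ (inv_mem hn) v)
    have hmk : (m : G) * k = n' * (v * n⁻¹ * v⁻¹) * (v * a) := by
      rw [← hm', ← hnk]; group
    have h1 : n' * (v * n⁻¹ * v⁻¹) = 1 := by
      have hA' : n' * (v * n⁻¹ * v⁻¹) ∈ A := by
        have := mul_mem hmem (inv_mem (mul_mem (hVA hv) ha))
        rwa [hmk, mul_inv_cancel_right] at this
      exact mem_bot.1 (hNA ▸ ⟨hn'', hA'⟩)
    rw [h1, one_mul] at hmk
    rw [show a = v⁻¹ * (v * a) by group, ← hmk]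
    exact mul_mem (inv_mem (hVU hv)) (mul_mem m.2.2 hk)
  rcases h.le_or_normal hUne hAH with hle | hnorm
  · exact hUne (le_bot_iff.1 (hNA ▸ le_inf hUN hle))
  · haveI := hnorm
    haveI := hUp.isNilpotent
    exact hUne (h.normal_eq_bot inferInstance)

end Cfsg.Agent.SuborbitThree
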