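import Cfsg.Agent.Lib.SuborbitThree.PermFour
import Cfsg.Agent.Lib.SuborbitThree.Regular
import Cfsg.Agent.Lib.SuborbitThree.Tools
import Cfsg.Agent.Lib.SuborbitThree.M11
import Cfsg.Agent.Lib.SuborbitThree.SDCore.Main
import Cfsg.Agent.Lib.GW.PartII.PartTwoFinal
import Cfsg.Agent.Lib.PSL2.MaximalPGLClassify
import Cfsg.Agent.Lib.PSL2.PGLHom
import Cfsg.Agent.Lib.Order5616.Main
import Cfsg.Agent.Lib.Mathieu.Groups
import Cfsg.Agent.S0799
import Cfsg.Agent.S0251

/-!
# Insoluble primitive groups with stabiliser `S4` and a suborbit of length three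
-/

set_option autoImplicit false
set_option linter.style.haveILetI false
set_option linter.unusedSectionVars false

namespace Cfsg.Agent.SuborbitThree

open Subgroup Suborbit

universe u

variable {G : Type u} [Group G] [Finite G] {A : Subgroup G}

theorem four_cases (e : A ≃* S4') {W : Subgroup G} (hW : W ≤ push e D0) (hcard : Nat.card W = 4)
    (hsq : ∀ w ∈ W, w * w = 1) : W = push e V4 ∨ W = push e W0 := by
  by_cases hWV : W ≤ push e V4
  · exact Or.inl (eq_of_le_of_card_ge hWV (by rw [card_push, card_V4, hcard]))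
  · obtain ⟨w, hwW, hwV⟩ := SetLike.not_le_iff_exists.1 hWV
    obtain ⟨hwA, hwD⟩ := (mem_push e _).1 (hW hwW)
    refine Or.inr (eq_of_le_of_card_ge (fun u hu => ?_) (by rw [card_push, card_W0, hcard]))
    obtain ⟨huA, huD⟩ := (mem_push e _).1 (hW hu)
    refine (mem_push e _).2 ⟨huA, W0_key _ _ hwD (fun hh => hwV ((mem_push e _).2 ⟨hwA, hh⟩)) ?_ huD ?_ ?_⟩
    · rw [← map_mul, show (⟨w, hwA⟩ : A) * ⟨w, hwA⟩ = 1 from Subtype.ext (hsq w hwW), map_one]
    · rw [← map_mul, show (⟨u, huA⟩ : A) * ⟨u, huA⟩ = 1 from Subtype.ext (hsq u hu), map_one]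
    · rw [← map_mul, ← map_mul, show ((⟨w, hwA⟩ : A) * ⟨u, huA⟩) * (⟨w, hwA⟩ * ⟨u, huA⟩) = 1 from
        Subtype.ext (hsq _ (mul_mem hwW hu)), map_one]

theorem sq_push_V4 (e : A ≃* S4') {v : G} (hv : v ∈ push e V4) : v * v = 1 := by
  obtain ⟨hvA, hm⟩ := (mem_push e _).1 hv
  have h1 : e (⟨v, hvA⟩ * ⟨v, hvA⟩) = e 1 := by rw [map_mul, map_one]; exact hm.1
  exact congrArg Subtype.val (e.injective h1)

section
variable (h : Prim A)
include h

theorem normalizer_V (e : A ≃* S4') : normalizer (push e V4 : Set G) = A :=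
  h.normalizer_eq (push_le e V4) (push_ne_bot e V4 fun hb => by
    have := card_V4; rw [hb, card_bot] at this; omega) (le_normalizer_push e V4)

theorem centralizer_V (e : A ≃* S4') : centralizer (push e V4 : Set G) = push e V4 := by
  refine le_antisymm (fun g hg => ?_) fun g hg => mem_centralizer_iff.2 fun v hv => ?_
  · have hgA : g ∈ A := (normalizer_V h e).le (centralizer_le_normalizer _ hg)
    exact (mem_push e _).2 ⟨hgA, cent_V4 _ fun v hv => mem_centralizer_iff.1 (centralizer_push_mem e _ hg hgA) v hv⟩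
  · have h1 := sq_push_V4 e hg
    have h2 := sq_push_V4 e hv
    have h3 := sq_push_V4 e (mul_mem hv hg)
    calc v * g = (v * g)⁻¹ := (inv_eq_of_mul_eq_one_left h3).symm
      _ = g⁻¹ * v⁻¹ := mul_inv_rev v g
      _ = g * v := by rw [inv_eq_of_mul_eq_one_left h1, inv_eq_of_mul_eq_one_left h2]

variable {x s : G} (hc : Cub A x s)
include hc

/-- The setting: a Sylow 2-subgroup with a self-centralising four-group, of order at least 16. -/
theorem s4_setting (e0 : A ≃* S4') : ∃ e : A ≃* S4', push e D0 = cubC A x ∧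
    cs x (push e V4) ≠ push e V4 ∧
    ∃ P : Sylow 2 G, push e V4 ≤ (P : Subgroup G) ∧ 16 ∣ Nat.card (P : Subgroup G) := by
  haveI : Fact (Nat.Prime 2) := ⟨Nat.prime_two⟩
  have hA : Nat.card A = 24 := by
    rw [Nat.card_congr e0.toEquiv, Nat.card_perm, Nat.card_fin]; rfl
  have hC : Nat.card (cubC A x) = 8 := by have := hc.cardA; omega
  obtain ⟨e, he⟩ := exists_equiv_D0 e0 (Cub.hCA) hC
  set V := push e V4
  set C := cubC A x
  have hVC : V ≤ C := he ▸ push_mono e V4_le_D0
  have hsq : ∀ g : G, ∀ w ∈ cs g V, w * w = 1 := fun g w hw => by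
    have h1 := sq_push_V4 e (mem_cs.1 hw)
    calc w * w = g * (g⁻¹ * w * g * (g⁻¹ * w * g)) * g⁻¹ := by group
      _ = 1 := by rw [h1, mul_one, mul_inv_cancel]
  have h4 : ∀ g : G, Nat.card (cs g V) = 4 := fun g => by rw [card_cs, card_push, card_V4]
  have hne : cs x V ≠ V := fun q => hc.xmem ((normalizer_V h e).le (cs_eq_self_iff.1 q))
  have hW1 : cs x V ≤ C := (cs_mono hVC).trans hc.xC.le
  have hW2 : cs (x * x) V ≤ C := by rw [cs_mul]; exact (cs_mono hW1).trans hc.xC.le
  have h1 : cs x V = push e W0 :=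
    (four_cases e (hW1.trans he.ge) (h4 x) (hsq x)).resolve_left hne
  have h2 : cs (x * x) V = V := by
    rcases four_cases e (hW2.trans he.ge) (h4 _) (hsq _) with q | q
    · exact q
    · rw [← h1, cs_mul] at q
      exact absurd (cs_injective x q) hne
  have hxxA : x * x ∈ A := (normalizer_V h e).le (cs_eq_self_iff.1 h2)
  have hxxN : x * x ∈ normalizer (C : Set G) := cs_eq_self_iff.1 (by rw [cs_mul, hc.xC, hc.xC])
  have hAC : A ⊓ normalizer (C : Set G) = C := by
    symm
    refine eq_of_le_of_card_ge (le_inf Cub.hCA le_normalizer) ?_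
    obtain ⟨d, hd⟩ := card_dvd_of_le (le_inf Cub.hCA le_normalizer : C ≤ A ⊓ normalizer (C : Set G))
    have hd3 : 8 * d ∣ 8 * 3 := by
      rw [← hC, ← hd, show Nat.card C * 3 = Nat.card A by rw [hA, hC]]
      exact card_dvd_of_le inf_le_left
    rcases (Nat.dvd_prime Nat.prime_three).1 (Nat.dvd_of_mul_dvd_mul_left (by norm_num) hd3) with rfl | rfl
    · rw [hd, mul_one]
    · have hAN : A ≤ normalizer (C : Set G) :=
        (eq_of_le_of_card_ge (inf_le_left : A ⊓ normalizer (C : Set G) ≤ A) (by rw [hd, hA, hC])).ge.trans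
          inf_le_right
      exact absurd (cs_eq_self_iff.2 (hAN hc.sA)) hc.notnorm
  have hxC : x * x ∈ C := hAC.le ⟨hxxA, hxxN⟩
  have hz2 : IsPGroup 2 (zpowers x) := by
    have h8 : (x * x) ^ 8 = 1 := by
      have := pow_card_eq_one' (G := C) (x := ⟨x * x, hxC⟩)
      rw [hC] at this
      exact congrArg Subtype.val this
    have h16 : orderOf x ∣ 2 ^ 4 := orderOf_dvd_of_pow_eq_one (by
      rw [← sq, ← pow_mul] at h8
      exact h8)
    obtain ⟨k, -, hk⟩ := (Nat.dvd_prime_pow Nat.prime_two).1 h16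
    exact IsPGroup.of_card (n := k) (by rw [Nat.card_zpowers, hk])
  have hR : IsPGroup 2 (C ⊔ zpowers x : Subgroup G) :=
    hc.twoC.to_sup_of_normal_left' hz2 (zpowers_le.2 (cs_eq_self_iff.1 hc.xC))
  obtain ⟨P, hP⟩ := hR.exists_le_sylow
  refine ⟨e, he, hne, P, (hVC.trans le_sup_left).trans hP, ?_⟩
  obtain ⟨k, hk⟩ := P.2.exists_card_eq
  have hlt : 8 < Nat.card (P : Subgroup G) := by
    refine lt_of_le_of_ne ?_ fun q => hc.xmem (Cub.hCA (A := A) (x := x) ?_)
    · rw [← hC]; exact Nat.le_of_dvd Nat.card_pos (card_dvd_of_le (le_sup_left.trans hP))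
    · have := eq_of_le_of_card_ge (le_sup_left.trans hP : C ≤ (P : Subgroup G)) (by rw [hC, ← q])
      exact this.ge (hP (le_sup_right (α := Subgroup G) (mem_zpowers x)))
  rw [hk] at hlt ⊢
  exact pow_dvd_pow 2 (show 4 ≤ k by
    by_contra hk4
    have := Nat.pow_le_pow_right (show 0 < 2 by norm_num) (show k ≤ 3 by omega)
    omega)

/-- `G` is simple. -/
theorem s4_simple (e : A ≃* S4') (he : push e D0 = cubC A x) (hne : cs x (push e V4) ≠ push e V4) :
    IsSimpleGroup G := by
  haveI : Fact (Nat.Prime 2) := ⟨Nat.prime_two⟩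
  set V := push e V4
  set C := cubC A x
  have hV4 : Nat.card V = 4 := by rw [card_push, card_V4]
  have hVne : V ≠ ⊥ := fun hb => by rw [hb, card_bot] at hV4; omega
  haveI : Nontrivial G := by
    by_contra hn
    rw [not_nontrivial_iff_subsingleton] at hn
    exact hne (Subsingleton.elim _ _)
  refine ⟨fun N hN => ?_⟩
  haveI := hN
  by_cases hNA : N ⊓ A = ⊥
  · exact Or.inl (h.eq_bot_of_inf_eq_bot N hNA (push_le e V4) (IsPGroup.of_card (n := 2) (by rw [hV4]; rfl))
      hVne (le_normalizer_push e V4) ((centralizer_V h e).le.trans (push_le e V4)))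
  -- `N` contains the four-group
  have hVC : V ≤ C := he ▸ push_mono e V4_le_D0
  obtain ⟨m, hm, hm1⟩ : ∃ m ∈ N ⊓ A, m ≠ 1 := by
    by_contra hh
    push Not at hh
    exact hNA ((eq_bot_iff_forall _).2 hh)
  have hVN : V ≤ N := by
    have key : ∀ M : Subgroup S4', M.Normal → M ≠ ⊥ → V4 ≤ M := by
      intro M hM hMne
      obtain ⟨k, hk, hk1⟩ : ∃ k ∈ M, k ≠ 1 := by
        by_contra hh
        push Not at hh
        exact hMne ((eq_bot_iff_forall _).2 hh)
      have cl : ∀ k : S4', k ≠ 1 → ∀ v ∈ V4, v = 1 ∨ (∃ a b : S4', v = a * k * a⁻¹ * (b * k⁻¹ * b⁻¹)) := by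
        decide +kernel
      intro v hv
      rcases cl k hk1 v hv with rfl | ⟨a, b, rfl⟩
      · exact one_mem _
      · exact mul_mem (hM.conj_mem k hk a) (hM.conj_mem _ (inv_mem hk) b)
    intro v hv
    obtain ⟨hvA, hv4⟩ := (mem_push e _).1 hv
    have hM : ((N.subgroupOf A).map e.toMonoidHom).Normal :=
      (inferInstance : (N.subgroupOf A).Normal).map _ e.surjective
    have hMne : (N.subgroupOf A).map e.toMonoidHom ≠ ⊥ := fun hb => by
      have : e ⟨m, hm.2⟩ ∈ (⊥ : Subgroup S4') := hb ▸ ⟨⟨m, hm.2⟩, hm.1, rfl⟩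
      rw [mem_bot, MulEquiv.map_eq_one_iff] at this
      exact hm1 (congrArg Subtype.val this)
    obtain ⟨b, hb, hbe⟩ := key _ hM hMne hv4
    rw [e.injective hbe] at hb
    exact hb
  have hWN : cs x V ≤ N := by
    intro w hw
    have := hN.conj_mem _ (hVN (mem_cs.1 hw)) x
    simpa [mul_assoc] using this
  have hWC : cs x V ≤ C := (cs_mono hVC).trans hc.xC.le
  have hCN : C ≤ N := by
    have hC : Nat.card C = 8 := by rw [← he, card_push, card_D0]
    have hlt : 4 < Nat.card (V ⊔ cs x V : Subgroup G) := by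
      refine lt_of_le_of_ne (hV4.ge.trans (Nat.le_of_dvd Nat.card_pos (card_dvd_of_le le_sup_left))) fun q => ?_
      have h1 : V = V ⊔ cs x V := eq_of_le_of_card_ge le_sup_left (by rw [← q, hV4])
      exact hne (eq_of_le_of_card_ge (le_sup_right.trans h1.ge) (by rw [card_cs]))
    have hd : Nat.card (V ⊔ cs x V : Subgroup G) ∣ 2 ^ 3 := by
      rw [show (2 : ℕ) ^ 3 = 8 from rfl, ← hC]; exact card_dvd_of_le (sup_le hVC hWC)
    obtain ⟨k, hk3, hk⟩ := (Nat.dvd_prime_pow Nat.prime_two).1 hd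
    have hsup : V ⊔ cs x V = C := eq_of_le_of_card_ge (sup_le hVC hWC) (by
      rw [hC, hk]; rw [hk] at hlt
      interval_cases k <;> simp_all)
    exact hsup ▸ sup_le hVN hWN
  right
  have hAN : A ≤ N := by
    rw [← hc.gen]
    refine sup_le hCN ?_
    intro w hw
    have := hN.conj_mem _ (hCN (mem_cs.1 hw)) s
    simpa [mul_assoc] using this
  rcases hAN.eq_or_lt with q | q
  · exact absurd (h.core N hN q.ge) (fun hb => hNA (by rw [hb, bot_inf_eq]))
  · exact h.max.2 _ q

theorem case_s4 (e0 : A ≃* S4') :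
    (∃ p : ℕ, p.Prime ∧ (p % 16 = 1 ∨ p % 16 = 15) ∧
      Nonempty (G ≃* Matrix.ProjectiveSpecialLinearGroup (Fin 2) (ZMod p))) ∨
    Nonempty (G ≃* Matrix.ProjectiveSpecialLinearGroup (Fin 3) (ZMod 3)) := by
  classical
  haveI : Fact (Nat.Prime 2) := ⟨Nat.prime_two⟩
  haveI := Fintype.ofFinite G
  obtain ⟨e, he, hne, P, hVP, h16⟩ := s4_setting h hc e0
  haveI := s4_simple h hc e he hne
  set V := push e V4
  have hV4 : Nat.card V = 4 := by rw [card_push, card_V4]
  have hA24 : Nat.card A = 24 := by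
    rw [Nat.card_congr e.toEquiv, Nat.card_perm, Nat.card_fin]; rfl
  have hCV := centralizer_V h e
  have hV : IsKleinFour V := by
    have := Fintype.ofFinite V
    haveI : Nontrivial V := Finite.one_lt_card_iff_nontrivial.1 (by rw [hV4]; norm_num)
    refine ⟨hV4, ((Nat.dvd_prime Nat.prime_two).1 (Monoid.exponent_dvd_of_forall_pow_eq_one fun v =>
      Subtype.ext (by
        show (((v ^ 2 : V)) : G) = 1
        rw [SubmonoidClass.coe_pow, sq]; exact sq_push_V4 e v.2))).resolve_left fun h1 => ?_⟩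
    haveI : Subsingleton V := Monoid.exp_eq_one_iff.1 h1
    exact not_nontrivial V inferInstance
  have hPne : (⊤ : Subgroup (P : Subgroup G)) ≠ ⊥ := fun hb => by
    have h1 : Nat.card (⊤ : Subgroup (P : Subgroup G)) = 1 := by rw [hb, card_bot]
    rw [card_top] at h1
    rw [h1] at h16
    norm_num at h16
  obtain ⟨c, -, hcz, hco⟩ := PGroup.exists_orderOf_eq_mem_center P.2 ⊤ hPne
  have hcP : ∀ y ∈ (P : Subgroup G), y * (c : G) = c * y := fun y hy =>
    congrArg Subtype.val (mem_center_iff.1 hcz ⟨y, hy⟩)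
  have hcV : (c : G) ∈ V := hCV.le (mem_centralizer_iff.2 fun v hv => hcP v (hVP hv))
  have hc1 : (c : G) ≠ 1 := fun q => by
    rw [OneMemClass.coe_eq_one] at q
    rw [q, orderOf_one] at hco
    norm_num at hco
  obtain ⟨z, hzV, hz1, hzc⟩ : ∃ z ∈ V, z ≠ 1 ∧ z ≠ (c : G) := by
    by_contra hh
    push Not at hh
    have hsub : (V : Set G) ⊆ {1, (c : G)} := fun v hv => by
      rcases eq_or_ne v 1 with q | q
      · exact Or.inl q
      · exact Or.inr (hh v hv q)
    have := (Set.ncard_le_ncard hsub (Set.toFinite _)).trans (Set.ncard_insert_le _ _)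
    rw [Set.ncard_singleton, ← Nat.card_coe_set_eq] at this
    have h4 : Nat.card (V : Set G) = 4 := hV4
    omega
  have hz2 : orderOf z = 2 := orderOf_eq_prime (by rw [sq]; exact sq_push_V4 e hzV) hz1
  have hcent : Nat.card ((P : Subgroup G) ⊓ centralizer ({z} : Set G) : Subgroup G) = 4 := by
    rw [← hV4]
    congr 1
    suffices hh : (P : Subgroup G) ⊓ centralizer ({z} : Set G) = V by rw [hh]
    refine le_antisymm (fun y hy => ?_) (le_inf hVP fun v hv => mem_cent_iff.2 ?_)
    · have hK : V ≤ centralizer ({y} : Set G) := by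
        set K := V ⊓ centralizer ({y} : Set G)
        suffices hK : K = V from hK.ge.trans inf_le_right
        refine eq_of_le_of_card_ge inf_le_left ?_
        have h3 : 2 < Nat.card K := by
          have hsub : ({1, z, (c : G)} : Set G) ⊆ K := by
            rintro w (rfl | rfl | rfl)
            · exact one_mem _
            · exact ⟨hzV, mem_cent_iff.2 (mem_cent_iff.1 hy.2).symm⟩
            · exact ⟨hcV, mem_cent_iff.2 (hcP y hy.1).symm⟩
          have h1 := Set.ncard_le_ncard hsub (Set.toFinite _)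
          rw [Set.ncard_insert_of_notMem (by simp [hz1.symm, hc1.symm]), Set.ncard_pair hzc,
            ← Nat.card_coe_set_eq] at h1
          exact h1
        have hd : Nat.card K ∣ 4 := hV4 ▸ card_dvd_of_le inf_le_left
        have := Nat.le_of_dvd (by norm_num) hd
        rw [hV4]
        interval_cases Nat.card K <;> simp_all
      exact hCV.le (mem_centralizer_iff.2 fun v hv => mem_cent_iff.1 (hK hv))
    · exact (mem_centralizer_iff.1 (hCV.ge hzV) v hv)
  have h16G : 16 ∣ Nat.card G := h16.trans (card_subgroup_dvd_card _)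
  have hP4 : Nat.card (P : Subgroup G) ≠ 4 := fun q => by rw [q] at h16; norm_num at h16
  rcases (exists_cyclic_half P hz2 (hVP hzV) hcent hP4).1 with ⟨n, ⟨eP⟩⟩ | hSD
  · left
    have hd : GW.DihedralTwo G := by
      intro S
      refine ⟨n, ?_, ⟨(Sylow.equiv S P).trans eP⟩⟩
      rw [Nat.card_congr eP.toEquiv, DihedralGroup.nat_card] at h16
      by_contra hn
      interval_cases n <;> norm_num at h16
      · exact absurd (Finite.of_equiv _ eP.toEquiv) (by exact not_finite_iff_infinite.2 inferInstance)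
    rcases GW.isKnown_of_simple GW.partTwo G inferInstance hd with ⟨F, _, _, hodd, hF3, ⟨φ⟩⟩ | ⟨⟨φ⟩⟩
    swap
    · exfalso
      rw [Nat.card_congr φ.toEquiv, nat_card_alternatingGroup, Nat.card_fin] at h16G
      norm_num [Nat.factorial] at h16G
    obtain ⟨p, hp⟩ := CharP.exists F
    haveI := hp
    obtain ⟨m, hpr, hFcard⟩ := FiniteField.card F p
    haveI := Fact.mk hpr
    have hF5 : 5 ≤ Fintype.card F := by obtain ⟨t, ht⟩ := hodd; omega
    set M := φ.mapSubgroup A
    have hM : IsCoatom M := (OrderIso.isCoatom_iff φ.mapSubgroup A).2 h.max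
    let eM : M ≃* S4' := (A.equivMapOfInjective φ.toMonoidHom φ.injective).symm.trans e
    have hMc : Nat.card M = 24 := by rw [Nat.card_congr eM.toEquiv, Nat.card_perm, Nat.card_fin]; rfl
    rw [Nat.card_congr φ.toEquiv, PSL2.card_PSL] at h16G
    obtain ⟨t, ht⟩ := hodd
    rw [Nat.gcd_eq_left (show 2 ∣ Fintype.card F - 1 by omega)] at h16G
    have hno : ∀ k : ℕ, k ≠ 0 → ¬ Nonempty (M ≃* DihedralGroup k) := fun k hk ⟨ψ⟩ => by
      have h1 : k = 12 := by
        have := hMc; rw [Nat.card_congr ψ.toEquiv, DihedralGroup.nat_card] at this; omega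
      subst h1
      have h2 := pow_three_or_four ((ψ.symm.trans eM) (DihedralGroup.r 1))
      rw [← map_pow, ← map_pow, MulEquiv.map_eq_one_iff, MulEquiv.map_eq_one_iff] at h2
      revert h2; decide
    rcases PSL2.Maximal.classify_odd p ⟨t, ht⟩ hF5 hM (S0799.result rfl p M) with
      h' | ⟨-, k, hk, hψ⟩ | ⟨-, -, k, hk, hψ⟩ | ⟨F₀, _, _, hq, ⟨ψ⟩⟩ | ⟨F₀, _, _, r, hr, -, hq, ⟨ψ⟩⟩ |
        ⟨-, -, ⟨ψ⟩⟩ | ⟨-, -, -, ⟨ψ⟩⟩ | ⟨hFp, h8, -⟩
    · exfalso
      rw [hMc] at h'
      have : Fintype.card F < 8 := by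
        by_contra hge
        have := Nat.mul_le_mul (show 8 ≤ Fintype.card F by omega) (show 7 ≤ Fintype.card F - 1 by omega)
        omega
      interval_cases hq : Fintype.card F <;> omega
    · exact absurd hψ (hno k (by omega))
    · exact absurd hψ (hno k (by omega))
    · exfalso
      rw [Nat.card_congr ψ.toEquiv, PSL2.Maximal.card_pgl'] at hMc
      have h2 := Fintype.one_lt_card (α := F₀)
      have : Fintype.card F₀ < 4 := by
        by_contra hge
        have h9 : 16 ≤ Fintype.card F₀ ^ 2 := by nlinarith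
        have := Nat.mul_le_mul (show 4 ≤ Fintype.card F₀ by omega) (show 15 ≤ Fintype.card F₀ ^ 2 - 1 by omega)
        omega
      rcases (show Fintype.card F₀ = 2 ∨ Fintype.card F₀ = 3 by omega) with q | q
      · rw [q] at hMc; norm_num at hMc
      · rw [q] at hq; rw [hq] at h16G; norm_num at h16G
    · exfalso
      rw [Nat.card_congr ψ.toEquiv, PSL2.card_PSL] at hMc
      have h2 := Fintype.one_lt_card (α := F₀)
      have hodd0 : Odd (Fintype.card F₀) := by
        have : Odd (Fintype.card F) := ⟨t, ht⟩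
        rw [hq] at this
        exact (Nat.odd_pow_iff hr.ne_zero).1 this
      obtain ⟨t0, ht0⟩ := hodd0
      rw [Nat.gcd_eq_left (show 2 ∣ Fintype.card F₀ - 1 by omega)] at hMc
      have : Fintype.card F₀ < 5 := by
        by_contra hge
        have h25 : 5 ^ 2 ≤ Fintype.card F₀ ^ 2 := Nat.pow_le_pow_left (by omega) 2
        have := Nat.mul_le_mul (show 5 ≤ Fintype.card F₀ by omega) (show 24 ≤ Fintype.card F₀ ^ 2 - 1 by omega)
        omega
      rw [show Fintype.card F₀ = 3 by omega] at hMc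
      norm_num at hMc
    · rw [Nat.card_congr ψ.toEquiv, nat_card_alternatingGroup, Nat.card_fin] at hMc
      norm_num [Nat.factorial] at hMc
    · rw [Nat.card_congr ψ.toEquiv, nat_card_alternatingGroup, Nat.card_fin] at hMc
      norm_num [Nat.factorial] at hMc
    refine ⟨p, hpr, ?_, ⟨φ.trans (PSL2.pslCongr (ZMod.ringEquivOfPrime F hpr hFp).symm)⟩⟩
    rw [hFp] at h16G
    obtain ⟨i, hi⟩ : ∃ i, p = 16 * i + p % 16 := ⟨p / 16, (Nat.div_add_mod p 16).symm⟩
    by_contra hcon
    have h78 : p % 16 = 7 ∨ p % 16 = 9 := by omega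
    have hpodd : ¬ 2 ∣ p := by omega
    have h2 : 32 ∣ p * (p ^ 2 - 1) := by
      have h3 := Nat.mul_dvd_mul_right h16G 2
      rw [Nat.div_mul_cancel (by
        refine Dvd.dvd.mul_left ?_ p
        rw [show p ^ 2 - 1 = (p + 1) * (p - 1) by rw [← Nat.sq_sub_sq, one_pow]]
        exact Dvd.dvd.mul_left (by omega) _)] at h3
      exact h3
    have h4 : 32 ∣ p ^ 2 - 1 :=
      (Nat.Coprime.pow_left 5 ((Nat.prime_two.coprime_iff_not_dvd).2 hpodd)).dvd_of_dvd_mul_left h2
    rcases h78 with q | q <;> rw [q] at hi <;> subst hi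
    · rw [show (16 * i + 7) ^ 2 - 1 = 32 * (8 * i * i + 7 * i + 1) + 16 by
        rw [Nat.sub_eq_of_eq_add]; ring] at h4
      omega
    · rw [show (16 * i + 9) ^ 2 - 1 = 32 * (8 * i * i + 9 * i + 2) + 16 by
        rw [Nat.sub_eq_of_eq_add]; ring] at h4
      omega
  · right
    rcases sd_core h.insol P hSD V hV hVP hCV with ⟨F, _, _, hF, ⟨φ⟩⟩ | ⟨⟨φ⟩⟩
    · haveI : Fact (Nat.Prime 3) := ⟨Nat.prime_three⟩
      exact ⟨φ.trans (Order5616.pslThreeCongr (ZMod.ringEquivOfPrime F Nat.prime_three hF).symm)⟩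
    · exact (no_coatom_twenty_four ((Nat.card_congr φ.toEquiv).trans Mathieu.card_M11) h.max hA24).elim

end

end Cfsg.Agent.SuborbitThree
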