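import Cfsg.Agent.Lib.SuborbitThree.CaseS4TwoLocal
import Cfsg.Agent.Lib.SuborbitThree.Regular
import Cfsg.Agent.Lib.SuborbitThree.Tools
import Cfsg.Agent.Lib.SuborbitThree.SDCore.Main
import Cfsg.Agent.Lib.Order5616.Main
import Cfsg.Agent.Lib.Mathieu.OuterAut

/-!
# Insoluble primitive groups with stabiliser `S4 × 2` and a suborbit of length three
-/

set_option autoImplicit false
set_option linter.style.haveILetI false
set_option linter.unusedSectionVars false

namespace Cfsg.Agent.SuborbitThree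

open Subgroup Suborbit

universe u

namespace STwo

variable {G : Type u} [Group G] [Finite G] {A : Subgroup G} {x s : G} (S : STwo A x s)
include S

theorem card_D : Nat.card S.D = 8 := by
  have hidx : (S.D.subgroupOf (cubC A x)).index = 2 := by
    rw [index_eq_two_iff]
    refine ⟨⟨S.z, S.z_mem_C⟩, fun b => ?_⟩
    by_cases hb : (b : G) ∈ S.D
    · refine Or.inr ⟨hb, fun h => S.z_not_mem_D ?_⟩
      simpa using mul_mem (inv_mem hb) (show (b : G) * S.z ∈ S.D from h)
    · refine Or.inl ⟨?_, hb⟩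
      show (b : G) * S.z ∈ S.D
      rw [S.z_comm (Cub.hCA b.2)]
      exact (S.C_cases b.2).resolve_left hb
  have h1 := card_mul_index (S.D.subgroupOf (cubC A x))
  rw [hidx, Nat.card_congr (subgroupOfEquivOfLe S.D_le_C).toEquiv, S.card_C] at h1
  omega

theorem V_le_of_normal (N : Subgroup G) [N.Normal] (hzN : S.z ∉ N) (hNA : N ⊓ A ≠ ⊥) : S.V ≤ N := by
  obtain ⟨m, hm, hm1⟩ : ∃ m ∈ N ⊓ A, m ≠ 1 := by
    by_contra hh
    push Not at hh
    exact hNA ((eq_bot_iff_forall _).2 hh)
  obtain ⟨k, rfl⟩ := S.exists_el hm.2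
  intro v hv
  obtain ⟨l, hl, rfl⟩ := S.exists_el_push hv
  rcases normal_closure k (fun e => hm1 (by rw [e, el_one])) (fun e => hzN (by have := hm.1; rwa [e] at this)) l hl with
    rfl | ⟨a, b, rfl⟩
  · rw [el_one]; exact one_mem _
  · simp only [el_mul, el_inv]
    exact mul_mem ((inferInstance : N.Normal).conj_mem _ hm.1 _)
      ((inferInstance : N.Normal).conj_mem _ (inv_mem hm.1) _)

theorem D_le_of_normal (N : Subgroup G) [N.Normal] (hzN : S.z ∉ N) (hNA : N ⊓ A ≠ ⊥) : S.D ≤ N := by
  refine sup_le (S.V_le_of_normal N hzN hNA) fun w hw => ?_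
  have := (inferInstance : N.Normal).conj_mem _ (S.V_le_of_normal N hzN hNA (mem_cs.1 hw)) x
  simpa [mul_assoc] using this

variable (N : Subgroup G) [N.Normal] (hidx : N.index = 2) (hzN : S.z ∉ N)

include hidx hzN in
theorem card_inf : Nat.card (A ⊓ N : Subgroup G) = 24 := by
  have h1 := card_mul_index (N.subgroupOf A)
  have h2 : N.relIndex A = 2 := by
    refine (Nat.prime_two.eq_one_or_self_of_dvd _ (hidx ▸ relIndex_dvd_index_of_normal N A)).resolve_left ?_
    intro e
    exact hzN (relIndex_eq_one.1 e (S.el_mem zz))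
  rw [← card_subtype A (N.subgroupOf A), subgroupOf_map_subtype, show (N.subgroupOf A).index = 2 from h2,
    S.card_A, inf_comm] at h1
  omega

include hidx hzN in
theorem minimal (N1 : Subgroup G) [N1.Normal] (hle : N1 ≤ N) (hne : N1 ≠ ⊥) : N1 = N := by
  have hzN1 : S.z ∉ N1 := fun h => hzN (hle h)
  have hNA : N1 ⊓ A ≠ ⊥ := fun e => hne (S.prim.eq_bot_of_inf_eq_bot N1 e (push_le S.e E2)
    (IsPGroup.of_card (n := 3) (by rw [← E, S.card_E]; rfl))
    (fun h => by have := S.card_E; rw [E, h, card_bot] at this; omega) (le_normalizer_push S.e E2)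
    fun g hg => S.normalizer_E.le (centralizer_le_normalizer _ hg))
  have hD := S.D_le_of_normal N1 hzN1 hNA
  have hinf : A ⊓ N1 = A ⊓ N := by
    refine eq_of_le_of_card_ge (inf_le_inf_left _ hle) ?_
    rw [S.card_inf N hidx hzN]
    have hDle : S.D ≤ A ⊓ N1 := le_inf (S.D_le_C.trans Cub.hCA) hD
    obtain ⟨d, hd⟩ := card_dvd_of_le hDle
    have h8 : 8 * d ∣ 8 * 3 := by
      have h := card_dvd_of_le (inf_le_inf_left A hle)
      rw [hd, S.card_D, S.card_inf N hidx hzN] at h
      exact h
    rw [hd, S.card_D]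
    rcases (Nat.dvd_prime Nat.prime_three).1 (Nat.dvd_of_mul_dvd_mul_left (by norm_num) h8) with rfl | rfl
    · exfalso
      have he : S.D = A ⊓ N1 := eq_of_le_of_card_ge hDle (by rw [hd, mul_one])
      have hAD : A ≤ normalizer (S.D : Set G) := by
        intro a ha
        refine cs_eq_self_iff.1 (cs_eq_of_le ?_)
        rw [he]
        intro g hg
        obtain ⟨hgA, hgN⟩ := mem_cs.1 hg
        refine ⟨?_, ?_⟩
        · have := mul_mem (mul_mem ha hgA) (inv_mem ha)
          simpa [mul_assoc] using this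
        · have := (inferInstance : N1.Normal).conj_mem _ hgN a
          simpa [mul_assoc] using this
      refine S.cub.xmem ((S.prim.normalizer_eq (S.D_le_C.trans Cub.hCA) (fun h => ?_) hAD).le
        (cs_eq_self_iff.1 (S.cs_D S.out_x)))
      have := S.card_D; rw [h, card_bot] at this; omega
    · norm_num
  refine le_antisymm hle fun n hn => ?_
  obtain ⟨a, ha, m, hm, rfl⟩ := mem_sup_of_normal_right.1
    (show n ∈ A ⊔ N1 by rw [S.prim.sup_eq_top hne]; trivial)
  have haN : a ∈ N := by simpa using mul_mem hn (inv_mem (hle hm))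
  exact mul_mem (hinf.ge ⟨ha, haN⟩ : a ∈ A ⊓ N1).2 hm

end STwo

theorem zmod_two_cases : ∀ m : Multiplicative (ZMod 2), m = 1 ∨ m = Multiplicative.ofAdd 1 := by decide

theorem factorization_two_card {G : Type*} [Group G] [Finite G] {k : ℕ} (P : Sylow 2 G)
    (h : Nat.card (P : Subgroup G) = 2 ^ k) : (Nat.card G).factorization 2 = k := by
  haveI : Fact (Nat.Prime 2) := ⟨Nat.prime_two⟩
  rw [P.card_eq_multiplicity] at h
  exact Nat.pow_right_injective le_rfl h

variable {G : Type u} [Group G] [Finite G] {A : Subgroup G} {x s : G}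

theorem case_s4_two (h : Prim A) (hc : Cub A x s) (e0 : A ≃* K2) :
    ∃ N : Subgroup G, N.Normal ∧ N.index = 2 ∧ Subgroup.centralizer (N : Set G) = ⊥ ∧
      Nonempty (N ≃* Matrix.ProjectiveSpecialLinearGroup (Fin 3) (ZMod 3)) := by
  classical
  haveI : Fact (Nat.Prime 2) := ⟨Nat.prime_two⟩
  haveI : Fact (Nat.Prime 3) := ⟨Nat.prime_three⟩
  haveI := Fintype.ofFinite G
  have hC : Nat.card (cubC A x) = 16 := by
    have := hc.cardA
    rw [Nat.card_congr e0.toEquiv, card_K2] at this
    omega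
  obtain ⟨e, he⟩ := exists_equiv_D02 e0 Cub.hCA hC
  let S : STwo A x s := ⟨h, hc, e, he⟩
  obtain ⟨N, hNn, hidx, hzN⟩ := S.exists_index_two
  haveI := hNn
  have hNA : N ⊓ A ≠ ⊥ := fun q => by
    have := S.card_inf N hidx hzN
    rw [inf_comm, q, card_bot] at this
    omega
  have hDN := S.D_le_of_normal N hzN hNA
  have hVN : S.V ≤ N := le_sup_left.trans hDN
  have hcN : S.c ∈ N := hVN S.c_mem_V
  -- the centraliser of `V` in `N`
  have hEN : ∀ g ∈ S.E, g ∈ N → g ∈ S.V := by
    intro g hg hgN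
    obtain ⟨⟨k1, k2⟩, hk, rfl⟩ := S.exists_el_push hg
    have hv : S.el (k1, 1) ∈ S.V := S.el_mem_push.2 (mem_V42.2 ⟨mem_E2.1 hk, rfl⟩)
    rcases zmod_two_cases k2 with rfl | rfl
    · exact hv
    · refine absurd ?_ hzN
      have e1 : S.el (k1, Multiplicative.ofAdd 1) = S.z * S.el (k1, 1) := by
        rw [STwo.z, ← STwo.el_mul]; simp [zz]
      have := mul_mem hgN (inv_mem (hVN hv))
      rwa [e1, mul_inv_cancel_right] at this
  have hCV : ∀ g ∈ N, (∀ v ∈ S.V, v * g = g * v) → g ∈ S.V := fun g hgN hg => hEN g (S.cent_V hg) hgN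
  -- the Sylow subgroups
  obtain ⟨P, hP⟩ := S.exists_sylow
  have hG5 : (Nat.card G).factorization 2 = 5 := factorization_two_card P (by rw [hP, S.card_N]; rfl)
  have hN4 : (Nat.card N).factorization 2 = 4 := by
    have h1 := card_mul_index N
    rw [hidx] at h1
    rw [← h1, Nat.factorization_mul Nat.card_pos.ne' (by norm_num), Finsupp.add_apply,
      Nat.Prime.factorization_self Nat.prime_two] at hG5
    omega
  have hsup : N ⊔ zpowers S.z = ⊤ := by
    have hlt : N < N ⊔ zpowers S.z := lt_of_le_of_ne le_sup_left fun q =>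
      hzN (q.ge (le_sup_right (α := Subgroup G) (mem_zpowers _)))
    have h1 := relIndex_mul_index hlt.le
    rw [hidx] at h1
    rcases Nat.prime_two.eq_one_or_self_of_dvd _ (Dvd.intro_left _ h1) with q | q
    · exact index_eq_one.1 q
    · rw [q] at h1
      exact absurd (relIndex_eq_one.1 (show N.relIndex (N ⊔ zpowers S.z) = 1 by omega)) (not_le_of_gt hlt)
  -- `N` is simple
  haveI : Nontrivial N := (Subgroup.nontrivial_iff_ne_bot N).2 fun q => hNA (by rw [q, bot_inf_eq])
  haveI : IsSimpleGroup N := by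
    refine ⟨fun K hK => ?_⟩
    set K1 := K.map N.subtype with hK1
    have hK1N : K1 ≤ N := map_subtype_le K
    have hnK : ∀ n ∈ N, cs n K1 = K1 := fun n hn => cs_eq_of_le (by
      rintro _ ⟨g, ⟨k, hk, rfl⟩, rfl⟩
      exact ⟨_, hK.conj_mem k hk ⟨n, hn⟩, rfl⟩)
    have hnK' : ∀ n ∈ N, cs n (cs S.z K1) = cs S.z K1 := fun n hn => by
      have h1 := (inferInstance : N.Normal).conj_mem n hn S.z⁻¹
      rw [inv_inv] at h1
      rw [← cs_mul, show n * S.z = S.z * (S.z⁻¹ * n * S.z) by group, cs_mul, hnK _ h1]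
    have hzz : cs S.z (cs S.z K1) = K1 := by rw [← cs_mul, S.z_mul_z, cs_one]
    have hnorm : ∀ M : Subgroup G, (∀ n ∈ N, cs n M = M) → cs S.z M = M → M.Normal := fun M h1 h2 => by
      refine normalizer_eq_top_iff.1 (eq_top_iff.2 (hsup ▸ sup_le ?_ (zpowers_le.2 (cs_eq_self_iff.1 h2))))
      exact fun n hn => cs_eq_self_iff.1 (h1 n hn)
    have hK'N : cs S.z K1 ≤ N := fun g hg => by
      have := (inferInstance : N.Normal).conj_mem _ (hK1N (mem_cs.1 hg)) S.z
      simpa [mul_assoc] using this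
    haveI := hnorm (K1 ⊓ cs S.z K1) (fun n hn => by rw [cs_inf, hnK n hn, hnK' n hn])
      (by rw [cs_inf, hzz, inf_comm])
    by_cases hinf : K1 ⊓ cs S.z K1 = ⊥
    · by_cases hK0 : K1 = ⊥
      · exact Or.inl ((map_eq_bot_iff_of_injective _ N.subtype_injective).1 hK0)
      exfalso
      haveI := hnorm (K1 ⊔ cs S.z K1) (fun n hn => by rw [cs_sup, hnK n hn, hnK' n hn])
        (by rw [cs_sup, hzz, sup_comm])
      have hsupN : K1 ⊔ cs S.z K1 = N := S.minimal N hidx hzN _ (sup_le hK1N hK'N)
        fun q => hK0 (le_bot_iff.1 (q ▸ le_sup_left))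
      set L1 := K1.subgroupOf N with hL1
      set L2 := (cs S.z K1).subgroupOf N with hL2
      haveI hL1n : L1.Normal := normal_subgroupOf_iff_le_normalizer hK1N |>.2 fun n hn => cs_eq_self_iff.1 (hnK n hn)
      haveI hL2n : L2.Normal := normal_subgroupOf_iff_le_normalizer hK'N |>.2 fun n hn => cs_eq_self_iff.1 (hnK' n hn)
      have hdis : L1 ⊓ L2 = ⊥ :=
        eq_bot_iff.2 fun g hg => Subtype.ext (mem_bot.1 (hinf.le hg))
      have hsupL : L1 ⊔ L2 = ⊤ := by
        rw [hL1, hL2, ← subgroupOf_sup hK1N hK'N, hsupN, subgroupOf_self]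
      have hcard : Nat.card N = Nat.card L1 * Nat.card L2 := by
        have h1 := card_mul_index L1
        rw [← h1]
        congr 1
        have h2 := relIndex_sup_left (H := L2) (K := L1)
        rw [hsupL, relIndex_top_right] at h2
        rw [h2, ← relIndex_bot_left, ← hdis, inf_relIndex_right]
      have hK12 : (Nat.card K1).factorization 2 = 2 := by
        rw [hcard, Nat.card_congr (subgroupOfEquivOfLe hK1N).toEquiv,
          Nat.card_congr (subgroupOfEquivOfLe hK'N).toEquiv, card_cs,
          Nat.factorization_mul Nat.card_pos.ne' Nat.card_pos.ne', Finsupp.add_apply] at hN4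
        omega
      obtain ⟨Q⟩ : Nonempty (Sylow 2 K1) := inferInstance
      set Q1 := (Q : Subgroup K1).map K1.subtype with hQ1
      have hQ1c : Nat.card Q1 = 4 := by
        rw [card_map_of_injective K1.subtype_injective, Q.card_eq_multiplicity, hK12]; rfl
      have hQ2c : Nat.card (cs S.z Q1) = 4 := by rw [card_cs, hQ1c]
      have hQ2le : cs S.z Q1 ≤ cs S.z K1 := cs_mono (map_subtype_le _)
      have hcomm12 : ∀ a ∈ K1, ∀ b ∈ cs S.z K1, a * b = b * a := fun a ha b hb => by
        have h1 : (⟨a, hK1N ha⟩ : N) * ⟨b, hK'N hb⟩ = ⟨b, hK'N hb⟩ * ⟨a, hK1N ha⟩ :=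
          commute_of_normal_of_disjoint L1 L2 hL1n hL2n (disjoint_iff.2 hdis) _ _ ha hb
        exact congrArg Subtype.val h1
      have habel : ∀ (M : Subgroup G), Nat.card M = 4 → ∀ a ∈ M, ∀ b ∈ M, a * b = b * a := fun M hM a ha b hb => by
        have h1 : IsMulCommutative M := IsPGroup.isMulCommutative_of_card_eq_prime_sq (p := 2) (by rw [hM]; rfl)
        exact congrArg Subtype.val (h1.is_comm.comm ⟨a, ha⟩ ⟨b, hb⟩)
      set Q12 := Q1 ⊔ cs S.z Q1 with hQ12
      have hQN : Q12 ≤ N := sup_le ((map_subtype_le _).trans hK1N) (hQ2le.trans hK'N)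
      have hQcomm : ∀ a ∈ Q12, ∀ b ∈ Q12, a * b = b * a := by
        have key : ∀ a ∈ Q12, ∀ b, (∀ g ∈ Q1, b * g = g * b) → (∀ g ∈ cs S.z Q1, b * g = g * b) →
            b * a = a * b := fun a ha b h1 h2 => by
          have hle : Q12 ≤ centralizer ({b} : Set G) :=
            sup_le (fun g hg => mem_cent_iff.2 (h1 g hg).symm) fun g hg => mem_cent_iff.2 (h2 g hg).symm
          exact (mem_cent_iff.1 (hle ha)).symm
        intro a ha b hb
        refine (key a ha b (fun g hg => ?_) fun g hg => ?_).symm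
        · exact (key b hb g (fun g' hg' => habel _ hQ1c g hg g' hg')
            fun g' hg' => hcomm12 g (map_subtype_le _ hg) g' (hQ2le hg')).symm
        · exact (key b hb g (fun g' hg' => (hcomm12 g' (map_subtype_le _ hg') g (hQ2le hg)).symm)
            fun g' hg' => habel _ hQ2c g hg g' hg').symm
      have hQcard : Nat.card Q12 = 16 := by
        have hn1 : cs S.z Q1 ≤ normalizer (Q1 : Set G) := fun g hg =>
          centralizer_le_normalizer _ (mem_centralizer_iff.2 fun a ha =>
            hcomm12 a (map_subtype_le _ ha) g (hQ2le hg))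
        haveI : (Q1.subgroupOf Q12).Normal :=
          normal_subgroupOf_iff_le_normalizer le_sup_left |>.2 (sup_le le_normalizer hn1)
        have h1 := card_mul_index (Q1.subgroupOf Q12)
        rw [Nat.card_congr (subgroupOfEquivOfLe (le_sup_left : Q1 ≤ Q12)).toEquiv, hQ1c] at h1
        have h2 : Q1 ⊓ cs S.z Q1 = ⊥ := le_bot_iff.1 (hinf ▸ inf_le_inf (map_subtype_le _) hQ2le)
        have h3 : (Q1.subgroupOf Q12).index = 4 := by
          have h4 := relIndex_sup_left (H := (cs S.z Q1).subgroupOf Q12) (K := Q1.subgroupOf Q12)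
          rw [← subgroupOf_sup le_sup_left le_sup_right, subgroupOf_self,
            relIndex_top_right, relIndex_subgroupOf le_sup_right] at h4
          rw [h4, ← inf_relIndex_right, h2, relIndex_bot_left, hQ2c]
        rw [h3] at h1
        omega
      -- a conjugate contains `V`
      let QN : Sylow 2 N := Sylow.ofCard (Q12.subgroupOf N)
        (by rw [Nat.card_congr (subgroupOfEquivOfLe hQN).toEquiv, hQcard, hN4]; rfl)
      obtain ⟨R, hR⟩ := (IsPGroup.of_card (n := 2) (by
        rw [Nat.card_congr (subgroupOfEquivOfLe hVN).toEquiv, S.card_V]; rfl) :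
          IsPGroup 2 (S.V.subgroupOf N)).exists_le_sylow
      obtain ⟨g, hg⟩ := MulAction.exists_smul_eq N QN R
      have hRc : Nat.card (R : Subgroup N) = 16 := by rw [R.card_eq_multiplicity, hN4]; rfl
      have hRV : ∀ r ∈ (R : Subgroup N), (r : G) ∈ S.V := by
        intro r hr
        refine hCV r r.2 fun v hv => ?_
        have hv' : (⟨v, hVN hv⟩ : N) ∈ (R : Subgroup N) := hR hv
        rw [← hg] at hr hv'
        obtain ⟨a, ha, rfl⟩ := hr
        obtain ⟨b, hb, hbe⟩ := hv'
        have h1 : a * b = b * a := Subtype.ext (hQcomm _ ha _ hb)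
        have h2 : g * b * g⁻¹ * (g * a * g⁻¹) = g * a * g⁻¹ * (g * b * g⁻¹) := by
          rw [conj_mul, conj_mul, h1]
        have h3 : g * b * g⁻¹ = ⟨v, hVN hv⟩ := hbe
        rw [h3] at h2
        exact congrArg Subtype.val h2
      have h1 := Nat.le_of_dvd Nat.card_pos (card_dvd_of_le (show (R : Subgroup N).map N.subtype ≤ S.V by
        rintro _ ⟨r, hr, rfl⟩; exact hRV r hr))
      rw [card_map_of_injective N.subtype_injective, hRc, S.card_V] at h1
      omega
    · have h1 := S.minimal N hidx hzN _ (inf_le_left.trans hK1N) hinf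
      refine Or.inr ((eq_top_iff' _).2 fun n => ?_)
      obtain ⟨k, hk, hkn⟩ := (h1.ge n.2).1
      rwa [← Subtype.ext hkn]
  have hns : ¬ Group.IsSolvable N := S.prim.normal_not_solvable fun q => hNA (by rw [q, bot_inf_eq])
  -- a Sylow 2-subgroup of `N`
  set T0 := normalizer (cubC A x : Set G) ⊓ N with hT0
  have hT0c : Nat.card T0 = 16 := by
    set R := normalizer (cubC A x : Set G)
    have h1 := card_mul_index (N.subgroupOf R)
    have h2 : N.relIndex R = 2 := by
      refine (Nat.prime_two.eq_one_or_self_of_dvd _ (hidx ▸ relIndex_dvd_index_of_normal N R)).resolve_left ?_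
      intro q
      exact hzN (relIndex_eq_one.1 q (le_normalizer S.z_mem_C))
    rw [← card_subtype R (N.subgroupOf R), subgroupOf_map_subtype, show (N.subgroupOf R).index = 2 from h2,
      S.card_N, inf_comm] at h1
    rw [hT0]
    omega
  let T : Sylow 2 N := Sylow.ofCard (T0.subgroupOf N)
    (by rw [Nat.card_congr (subgroupOfEquivOfLe inf_le_right).toEquiv, hT0c, hN4]; rfl)
  have hVT0 : S.V ≤ T0 := le_inf (S.V_le_C.trans le_normalizer) hVN
  set VN := S.V.subgroupOf N with hVN'
  have hVNc : Nat.card VN = 4 := by rw [Nat.card_congr (subgroupOfEquivOfLe hVN).toEquiv, S.card_V]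
  have hVT : VN ≤ (T : Subgroup N) := fun v hv => hVT0 hv
  have hV : IsKleinFour VN := by
    haveI : Nontrivial VN := Finite.one_lt_card_iff_nontrivial.1 (by rw [hVNc]; norm_num)
    refine ⟨hVNc, ((Nat.dvd_prime Nat.prime_two).1 (Monoid.exponent_dvd_of_forall_pow_eq_one fun v =>
      Subtype.ext (Subtype.ext (by
        show (((v ^ 2 : VN) : N) : G) = 1
        rw [SubmonoidClass.coe_pow, SubmonoidClass.coe_pow, sq]; exact S.V_sq v.2)))).resolve_left fun h1 => ?_⟩
    haveI : Subsingleton VN := Monoid.exp_eq_one_iff.1 h1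
    exact not_nontrivial VN inferInstance
  have hCVN : centralizer (VN : Set N) = VN := by
    refine le_antisymm (fun (g : N) hg => hCV (g : G) g.2 fun v hv =>
      congrArg Subtype.val (mem_centralizer_iff.1 hg ⟨v, hVN hv⟩ hv)) fun g hg => mem_centralizer_iff.2 fun v hv => ?_
    exact Subtype.ext (S.V_comm hv hg)
  obtain ⟨v, hv, hv1, hvc⟩ : ∃ v ∈ S.V, v ≠ 1 ∧ v ≠ S.c := by
    by_contra hh
    push Not at hh
    have hsub : (S.V : Set G) ⊆ {1, S.c} := fun v hv => by
      rcases eq_or_ne v 1 with q | q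
      · exact Or.inl q
      · exact Or.inr (hh v hv q)
    have := (Set.ncard_le_ncard hsub (Set.toFinite _)).trans (Set.ncard_insert_le _ _)
    rw [Set.ncard_singleton, ← Nat.card_coe_set_eq] at this
    have h4 : Nat.card (S.V : Set G) = 4 := S.card_V
    omega
  set v' : N := ⟨v, hVN hv⟩ with hv'
  have hvo : orderOf v' = 2 := orderOf_eq_prime (by rw [sq]; exact Subtype.ext (S.V_sq hv))
    fun q => hv1 (congrArg Subtype.val q)
  have hcentv : Nat.card ((T : Subgroup N) ⊓ centralizer ({v'} : Set N) : Subgroup N) = 4 := by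
    have hh : (T : Subgroup N) ⊓ centralizer ({v'} : Set N) = VN := by
      refine le_antisymm (fun (g : N) hg => hCV (g : G) g.2 fun w hw => ?_) (le_inf hVT fun g hg => mem_cent_iff.2
        (Subtype.ext (S.V_comm hg hv)))
      have hgR : (g : G) ∈ normalizer (cubC A x : Set G) := hg.1.1
      have h1 : (g : G) * v = v * g := congrArg Subtype.val (mem_cent_iff.1 hg.2)
      have h2 : (g : G) * S.c = S.c * g := mul_inv_eq_iff_eq_mul.1 (S.fix_c hgR)
      rcases S.V_cases hv hw hv1 hvc with rfl | rfl | rfl | rfl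
      · simp
      · exact h2.symm
      · exact h1.symm
      · calc v * S.c * g = v * (g * S.c) := by rw [mul_assoc, h2]
          _ = g * (v * S.c) := by rw [← mul_assoc, ← h1, mul_assoc]
    rw [hh, hVNc]
  have hTc : Nat.card (T : Subgroup N) = 16 :=
    (Nat.card_congr (subgroupOfEquivOfLe (inf_le_right : T0 ≤ N)).toEquiv).trans hT0c
  have hT4 : Nat.card (T : Subgroup N) ≠ 4 := by omega
  obtain ⟨hshape, y, hyT, hcard⟩ := exists_cyclic_half T hvo (hVT hv) hcentv hT4
  refine ⟨N, hNn, hidx, ?_, ?_⟩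
  · have hle : centralizer (N : Set G) ≤ A := fun g hg =>
      S.normalizer_E.le (le_normalizer (S.cent_V fun w hw => mem_centralizer_iff.1 hg w (hVN hw)))
    exact S.prim.core _ inferInstance hle
  rcases hshape with ⟨n, ⟨eT⟩⟩ | hSD
  · exfalso
    have hn : n = 8 := by
      have := hTc
      rw [Nat.card_congr eT.toEquiv, DihedralGroup.nat_card] at this
      omega
    subst hn
    -- an involution outside `D`
    obtain ⟨i, hi⟩ : ∃ i : ZMod 8, ((eT.symm (DihedralGroup.sr i) : N) : G) ∉ S.D := by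
      by_contra hh
      push Not at hh
      let f : Option (ZMod 8) → S.D := fun o => match o with
        | none => 1
        | some i => ⟨_, hh i⟩
      have hf : Function.Injective f := by
        rintro (_ | i) (_ | j) hij
        · rfl
        · have h1 := congrArg Subtype.val hij
          have h2 : eT.symm (DihedralGroup.sr j) = eT.symm 1 := by
            rw [map_one]; exact Subtype.ext (Subtype.ext h1.symm)
          exact absurd (eT.symm.injective h2) fun q => by rw [DihedralGroup.one_def] at q; exact nomatch q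
        · have h1 := congrArg Subtype.val hij
          have h2 : eT.symm (DihedralGroup.sr i) = eT.symm 1 := by
            rw [map_one]; exact Subtype.ext (Subtype.ext h1)
          exact absurd (eT.symm.injective h2) fun q => by rw [DihedralGroup.one_def] at q; exact nomatch q
        · have h0' := congrArg (fun o : S.D => (o : G)) hij
          have h0 : ((eT.symm (DihedralGroup.sr i) : N) : G) = ((eT.symm (DihedralGroup.sr j) : N) : G) := h0'
          have h1 := eT.symm.injective (Subtype.ext (Subtype.ext h0))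
          exact congrArg some (DihedralGroup.sr.inj h1)
      have := Nat.card_le_card_of_injective f hf
      rw [S.card_D, Nat.card_eq_fintype_card, Fintype.card_option, ZMod.card] at this
      omega
    set u : N := (eT.symm (DihedralGroup.sr i) : N) with hu
    have huT : u ∈ (T : Subgroup N) := (eT.symm _).2
    have huo : orderOf u = 2 := by
      rw [hu, orderOf_coe, MulEquiv.orderOf_eq, DihedralGroup.orderOf_sr]
    have hu2 : (u : G) * u = 1 := by
      have := congrArg Subtype.val (pow_orderOf_eq_one u)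
      rw [huo, sq] at this
      exact this
    have huR : (u : G) ∈ normalizer (cubC A x : Set G) := huT.1
    have huA : (u : G) ∉ A := fun q => by
      rcases S.C_cases (S.normalizer_C_A huR q) with r | r
      · exact hi r
      · exact hzN (by simpa using mul_mem (hDN r) (inv_mem u.2))
    have huO : S.Out' (u : G) := ⟨huR, huA⟩
    obtain ⟨g, hgT⟩ := exists_central_conj (pResidual_eq_top_of_insoluble hns) T hyT hcard huo huT
    set w := g * u * g⁻¹ with hw
    have hwV : (w : G) ∈ S.V := hCV w w.2 fun v' hv' =>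
      congrArg Subtype.val (mem_cent_iff.1 (hgT (hVT (show (⟨v', hVN hv'⟩ : N) ∈ VN from hv'))))
    have hw1 : (w : G) ≠ 1 := fun q => by
      have : u = 1 := conj_eq_one_iff.1 (Subtype.ext q : g * u * g⁻¹ = 1)
      rw [this, orderOf_one] at huo
      omega
    have huc : (w : G) = S.c := by
      have hDT : S.D ≤ T0 := le_inf (S.D_le_C.trans le_normalizer) hDN
      by_contra hwc
      obtain ⟨y', hy', hy1, hyc⟩ : ∃ y' ∈ S.W, y' ≠ 1 ∧ y' ≠ S.c := by
        refine ⟨x * v * x⁻¹, ⟨v, hv, rfl⟩, fun q => hv1 (conj_eq_one_iff.1 q), fun q => hvc ?_⟩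
        have : x * v * x⁻¹ = x * S.c * x⁻¹ := by rw [S.fix_c S.x_mem]; exact q
        exact mul_left_cancel (mul_right_cancel this)
      have hyT0 : y' ∈ T0 := hDT (le_sup_right (α := Subgroup G) hy')
      have h1 : y' * (w : G) = w * y' := congrArg Subtype.val (mem_cent_iff.1
        (hgT (show (⟨y', hyT0.2⟩ : N) ∈ (T : Subgroup N) from hyT0)))
      have h2 := S.W_V_mul hwV hw1 hwc hy' hy1 hyc
      rw [h1] at h2
      exact S.c_ne (mul_eq_left.1 h2.symm)
    -- `u` is conjugate to `c`, and commutes with an element whose square is `c`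
    set w1 := (u : G) * v * (u : G)⁻¹ with hw1'
    have hw1W : w1 ∈ S.W := S.cs_V huO ▸ ⟨v, hv, rfl⟩
    have hcu := S.fix_c huR
    have hw11 : w1 ≠ 1 := fun q => hv1 (conj_eq_one_iff.1 q)
    have hw1c : w1 ≠ S.c := fun q => hvc (by
      have : (u : G) * v * (u : G)⁻¹ = u * S.c * (u : G)⁻¹ := by rw [hcu]; exact q
      exact mul_left_cancel (mul_right_cancel this))
    set r := v * w1 with hr
    have hwv := S.W_V_mul hv hv1 hvc hw1W hw11 hw1c
    have hcw := S.c_comm (S.W_le_C hw1W)
    clear_value w1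
    have hrA : r ∈ A := mul_mem (S.V_le_A hv) (Cub.hCA (S.W_le_C hw1W))
    clear_value r
    have hr2 : r * r = S.c := by
      calc r * r = v * (w1 * v) * w1 := by rw [hr]; group
        _ = (v * v) * w1 * (S.c * w1) := by rw [hwv]; group
        _ = w1 * w1 * S.c := by rw [S.V_sq hv, one_mul, ← hcw, mul_assoc]
        _ = S.c := by rw [S.W_sq hw1W, one_mul]
    have hru : (u : G) * r * (u : G)⁻¹ = r * S.c := by
      have h1 : (u : G) * w1 * (u : G)⁻¹ = v := by
        calc (u : G) * w1 * (u : G)⁻¹ = u * u * v * ((u : G) * u)⁻¹ := by rw [hw1']; group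
          _ = v := by rw [hu2, one_mul, inv_one, mul_one]
      calc (u : G) * r * (u : G)⁻¹ = (u * v * (u : G)⁻¹) * (u * w1 * (u : G)⁻¹) := by rw [hr]; group
        _ = r * S.c := by rw [← hw1', h1, hwv, hr]
    set y1 := S.z * r with hy1'
    have hy1u : (u : G) * y1 * (u : G)⁻¹ = y1 := by
      calc (u : G) * y1 * (u : G)⁻¹ = (u * S.z * (u : G)⁻¹) * (u * r * (u : G)⁻¹) := by rw [hy1']; group
        _ = S.z * (S.c * r) * S.c := by rw [S.move_z huO, hru]; group
        _ = y1 := by
          rw [← S.c_comm (show r ∈ cubC A x by rw [hr]; exact mul_mem (S.V_le_C hv) (S.W_le_C hw1W)), ← mul_assoc,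
            mul_assoc (S.z * r),
            S.c_mul_c, mul_one]
    have hy12 : y1 * y1 = S.c := by
      calc y1 * y1 = S.z * (r * S.z) * r := by rw [hy1']; group
        _ = S.z * S.z * (r * r) := by rw [S.z_comm hrA]; group
        _ = S.c := by rw [S.z_mul_z, hr2, one_mul]
    -- transport to the centraliser of `c`
    set y2 := (g : G) * y1 * (g : G)⁻¹ with hy2
    set c1 := (g : G) * S.c * (g : G)⁻¹ with hc1
    have hy2c : y2 * S.c = S.c * y2 := by
      rw [← huc]
      show (g : G) * y1 * (g : G)⁻¹ * ((g : G) * u * (g : G)⁻¹) = (g : G) * u * (g : G)⁻¹ * _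
      rw [hy2, conj_mul, conj_mul, mul_inv_eq_iff_eq_mul.1 hy1u]
    have hy22 : y2 * y2 = c1 := by rw [hy2, hc1, conj_mul, hy12]
    have hc1c : c1 ≠ S.c := by
      rw [← huc, hc1]
      show (g : G) * S.c * (g : G)⁻¹ ≠ (g : G) * u * (g : G)⁻¹
      exact fun q => huA ((mul_left_cancel (mul_right_cancel q)).symm ▸ Cub.hCA S.c_mem_C)
    have hc12 : c1 * c1 = 1 := by rw [hc1, conj_mul, S.c_mul_c, mul_one, mul_inv_cancel]
    have hc11 : c1 ≠ 1 := fun q => S.c_ne (conj_eq_one_iff.1 q)
    have hy24 : y2 ^ 4 = 1 := by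
      rw [show (4 : ℕ) = 2 * 2 from rfl, pow_mul, sq, sq, hy22, hc12]
    have hy2p : IsPGroup 2 (zpowers y2) := by
      obtain ⟨j, -, hj⟩ := (Nat.dvd_prime_pow Nat.prime_two).1
        (show orderOf y2 ∣ 2 ^ 2 from orderOf_dvd_of_pow_eq_one hy24)
      exact IsPGroup.of_card (n := j) (by rw [Nat.card_zpowers, hj])
    have hPc : (P : Subgroup G) ≤ centralizer ({S.c} : Set G) := fun r hr =>
      mem_cent_iff.2 (mul_inv_eq_iff_eq_mul.1 (S.fix_c (hP.le hr)))
    obtain ⟨k, hk, hky⟩ : ∃ k : G, k * S.c = S.c * k ∧ k * y2 * k⁻¹ ∈ (P : Subgroup G) := by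
      set Cc := centralizer ({S.c} : Set G)
      have hy2C : zpowers y2 ≤ Cc := zpowers_le.2 (mem_cent_iff.2 hy2c)
      obtain ⟨Q, hQ⟩ := (hy2p.of_equiv (subgroupOfEquivOfLe hy2C).symm).exists_le_sylow
      have hPC : IsPGroup 2 ((P : Subgroup G).subgroupOf Cc) := P.2.of_equiv (subgroupOfEquivOfLe hPc).symm
      obtain ⟨Q', hQ'⟩ := hPC.exists_le_sylow
      have hQ'eq : (Q' : Subgroup Cc) = (P : Subgroup G).subgroupOf Cc := by
        refine (eq_of_le_of_card_ge hQ' ?_).symm
        rw [Nat.card_congr (subgroupOfEquivOfLe hPc).toEquiv, Q'.card_eq_multiplicity, P.card_eq_multiplicity]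
        exact Nat.pow_le_pow_right (by norm_num)
          ((Nat.factorization_le_iff_dvd Nat.card_pos.ne' Nat.card_pos.ne').2 (card_subgroup_dvd_card Cc) 2)
      obtain ⟨k, hk⟩ := MulAction.exists_smul_eq Cc Q Q'
      refine ⟨k, mem_cent_iff.1 k.2, ?_⟩
      have h1 : k * ⟨y2, hy2C (mem_zpowers _)⟩ * k⁻¹ ∈ (Q' : Subgroup Cc) :=
        hk ▸ ⟨_, hQ (show (⟨y2, _⟩ : Cc) ∈ (zpowers y2).subgroupOf Cc from mem_zpowers y2), rfl⟩
      rw [hQ'eq] at h1
      exact h1
    set y3 := k * y2 * k⁻¹ with hy3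
    have hy32 : y3 * y3 = k * c1 * k⁻¹ := by rw [hy3, conj_mul, hy22]
    have hy3R : y3 ∈ normalizer (cubC A x : Set G) := hP.le hky
    have hsqc : y3 * y3 = S.c := by
      have h21 : y3 * y3 * (y3 * y3) = 1 := by rw [hy32, conj_mul, hc12, mul_one, mul_inv_cancel]
      have hne1 : y3 * y3 ≠ 1 := fun q => hc11 (conj_eq_one_iff.1 (hy32 ▸ q))
      have inD : ∀ d ∈ S.D, d * d = 1 ∨ d * d = S.c := by
        intro d hd
        rcases S.D_cases hd with (q | q) | ⟨_, -, _, -, -, -, -, -, -, hsq⟩
        · exact Or.inl (S.V_sq q)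
        · exact Or.inl (S.W_sq q)
        · exact Or.inr hsq
      by_cases hyA : y3 ∈ A
      · rcases S.C_cases (S.normalizer_C_A hy3R hyA) with q | q
        · exact (inD _ q).resolve_left hne1
        · refine ((inD _ q).resolve_left fun e => hne1 ?_).symm.trans ?_ |>.symm
          · rw [← e]
            calc y3 * y3 = (S.z * S.z) * (y3 * y3) := by rw [S.z_mul_z, one_mul]
              _ = S.z * (S.z * y3) * y3 := by group
              _ = S.z * (y3 * S.z) * y3 := by rw [S.z_comm hyA]
              _ = S.z * y3 * (S.z * y3) := by group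
          · calc S.z * y3 * (S.z * y3) = S.z * (y3 * S.z) * y3 := by group
              _ = (S.z * S.z) * (y3 * y3) := by rw [S.z_comm hyA]; group
              _ = y3 * y3 := by rw [S.z_mul_z, one_mul]
      · have hyO : S.Out' y3 := ⟨hy3R, hyA⟩
        have hfix : y3 * (y3 * y3) * y3⁻¹ = y3 * y3 := by group
        rcases S.D_cases (S.sq_mem_D hyO) with (q | q) | ⟨_, -, _, -, -, -, -, -, -, hsq⟩
        · have h1 : y3 * (y3 * y3) * y3⁻¹ ∈ S.W := S.cs_V hyO ▸ ⟨_, q, rfl⟩
          rw [hfix] at h1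
          exact (S.W_V q h1).resolve_left hne1
        · have h1 : y3 * (y3 * y3) * y3⁻¹ ∈ S.V := S.cs_W hyO ▸ ⟨_, q, rfl⟩
          rw [hfix] at h1
          exact (S.W_V h1 q).resolve_left hne1
        · exact absurd (hsq.symm.trans h21) S.c_ne
    apply hc1c
    calc c1 = k⁻¹ * (y3 * y3) * k := by rw [hy32]; group
      _ = k⁻¹ * (S.c * k) := by rw [hsqc, mul_assoc]
      _ = S.c := by rw [← hk, inv_mul_cancel_left]
  · rcases sd_core hns T hSD VN hV hVT hCVN with ⟨F, _, _, hF, ⟨φ⟩⟩ | ⟨⟨φ⟩⟩
    · exact ⟨φ.trans (Order5616.pslThreeCongr (ZMod.ringEquivOfPrime F Nat.prime_three hF).symm)⟩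
    · exfalso
      -- `z` induces an inner automorphism
      let σ : MulAut N := MulAut.conjNormal S.z
      let σ' : MulAut Spor.M11 := (φ.symm.trans σ).trans φ
      haveI : Subsingleton (Cfsg.Out Spor.M11) := (Nat.card_eq_one_iff_unique.1 Mathieu.out_M11).1
      have h1 : σ' ∈ Cfsg.Inn Spor.M11 := (QuotientGroup.eq_one_iff σ').1 (Subsingleton.elim _ _)
      obtain ⟨m, hm⟩ := h1
      set n : N := φ.symm m with hn
      have hconj : ∀ a : N, (n : G) * a * (n : G)⁻¹ = S.z * a * S.z⁻¹ := fun a => by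
        have h2 := congrArg φ.symm (DFunLike.congr_fun hm (φ a))
        simp only [σ', MulAut.conj_apply, MulEquiv.trans_apply, MulEquiv.symm_apply_apply, map_mul, map_inv] at h2
        exact congrArg Subtype.val h2
      have hcen : (n : G)⁻¹ * S.z ∈ centralizer (N : Set G) := mem_centralizer_iff.2 fun a ha => by
        have h3 := hconj ⟨a, ha⟩
        calc a * ((n : G)⁻¹ * S.z) = (n : G)⁻¹ * ((n : G) * a * (n : G)⁻¹) * S.z := by group
          _ = (n : G)⁻¹ * (S.z * a * S.z⁻¹) * S.z := by rw [h3]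
          _ = (n : G)⁻¹ * S.z * a := by group
      have hle : centralizer (N : Set G) ≤ A := fun g hg =>
        S.normalizer_E.le (le_normalizer (S.cent_V fun w hw => mem_centralizer_iff.1 hg w (hVN hw)))
      rw [S.prim.core _ inferInstance hle, mem_bot, inv_mul_eq_one] at hcen
      exact hzN (hcen ▸ n.2)

end Cfsg.Agent.SuborbitThree
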