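import Cfsg.Agent.Lib.SuborbitThree.PermFourTwo
import Cfsg.Agent.Lib.Suborbit.Sims
import Cfsg.Agent.Lib.Transfer.Thompson

/-!
# Stabiliser `S4 × 2`: the Sylow 2-subgroup, and a normal subgroup of index two
-/

set_option autoImplicit false
set_option linter.style.haveILetI false
set_option linter.unusedSectionVars false

namespace Cfsg.Agent.SuborbitThree

open Subgroup Suborbit

/-- The data of the case `S4 × 2`. -/
structure STwo {G : Type*} [Group G] [Finite G] (A : Subgroup G) (x s : G) where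
  prim : Prim A
  cub : Cub A x s
  e : A ≃* K2
  he : push e D02 = cubC A x

namespace STwo

variable {G : Type*} [Group G] [Finite G] {A : Subgroup G} {x s : G} (S : STwo A x s)
include S

/-- The element of `A` over an element of the model. -/
def el (k : K2) : G := (S.e.symm k : A)

/-- The central involution of `A`. -/
def z : G := S.el zz
/-- The central involution of `C` in `O2(A)'`. -/
def c : G := S.el cc
/-- The normal four-group of `A`. -/
def V : Subgroup G := push S.e V42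
/-- The normal elementary abelian subgroup of order eight. -/
def E : Subgroup G := push S.e E2
/-- The conjugate four-group. -/
def W : Subgroup G := cs x S.V
/-- The dihedral group generated by the two four-groups. -/
def D : Subgroup G := S.V ⊔ S.W

theorem el_mem (k : K2) : S.el k ∈ A := (S.e.symm k).2

theorem el_mul (k l : K2) : S.el (k * l) = S.el k * S.el l := by simp [el]

theorem el_one : S.el 1 = 1 := by simp [el]

theorem el_inv (k : K2) : S.el k⁻¹ = (S.el k)⁻¹ := by simp [el]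

theorem el_inj {k l : K2} (h : S.el k = S.el l) : k = l := S.e.symm.injective (Subtype.ext h)

theorem el_mem_push {K : Subgroup K2} {k : K2} : S.el k ∈ push S.e K ↔ k ∈ K := by
  refine ⟨fun h => ?_, fun h => coe_symm_mem_push _ _ h⟩
  obtain ⟨_, hm⟩ := (mem_push _ _).1 h
  simpa [el] using hm

theorem exists_el {g : G} (hg : g ∈ A) : ∃ k, S.el k = g := ⟨S.e ⟨g, hg⟩, by simp [el]⟩

theorem exists_el_push {K : Subgroup K2} {g : G} (hg : g ∈ push S.e K) : ∃ k ∈ K, S.el k = g := by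
  obtain ⟨k, rfl⟩ := S.exists_el (push_le _ _ hg)
  exact ⟨k, S.el_mem_push.1 hg, rfl⟩

theorem exists_el_C {g : G} (hg : g ∈ cubC A x) : ∃ k ∈ D02, S.el k = g := S.exists_el_push (S.he.ge hg)

theorem el_mem_C {k : K2} (hk : k ∈ D02) : S.el k ∈ cubC A x := S.he.le (S.el_mem_push.2 hk)

theorem card_A : Nat.card A = 48 := (Nat.card_congr S.e.toEquiv).trans card_K2

theorem card_C : Nat.card (cubC A x) = 16 := by rw [← S.he, card_push, card_D02]

theorem z_mul_z : S.z * S.z = 1 := by rw [z, ← el_mul, zz_sq, el_one]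

theorem z_inv : S.z⁻¹ = S.z := inv_eq_of_mul_eq_one_left S.z_mul_z

theorem z_ne : S.z ≠ 1 := fun h => zz_ne (S.el_inj (h.trans S.el_one.symm))

theorem c_mul_c : S.c * S.c = 1 := by rw [c, ← el_mul, sq_V42 _ cc_mem, el_one]

theorem c_inv : S.c⁻¹ = S.c := inv_eq_of_mul_eq_one_left S.c_mul_c

theorem c_ne : S.c ≠ 1 := fun h => cc_ne (S.el_inj (h.trans S.el_one.symm))

theorem c_ne_z : S.c ≠ S.z := fun h => cc_ne_zz (S.el_inj h)

theorem z_comm {a : G} (ha : a ∈ A) : a * S.z = S.z * a := by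
  obtain ⟨k, rfl⟩ := S.exists_el ha
  rw [z, ← el_mul, ← el_mul, zz_central]

theorem c_comm {a : G} (ha : a ∈ cubC A x) : a * S.c = S.c * a := by
  obtain ⟨k, hk, rfl⟩ := S.exists_el_C ha
  rw [c, ← el_mul, ← el_mul, cc_center k hk]

theorem C_le_A : cubC A x ≤ A := Cub.hCA

theorem V_le_E : S.V ≤ S.E := push_mono _ V42_le_E2
theorem E_le_C : S.E ≤ cubC A x := (push_mono _ E2_le_D02).trans S.he.le
theorem V_le_C : S.V ≤ cubC A x := S.V_le_E.trans S.E_le_C
theorem V_le_A : S.V ≤ A := push_le _ _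
theorem z_mem_E : S.z ∈ S.E := S.el_mem_push.2 zz_mem
theorem c_mem_V : S.c ∈ S.V := S.el_mem_push.2 cc_mem
theorem z_mem_C : S.z ∈ cubC A x := S.E_le_C S.z_mem_E
theorem c_mem_C : S.c ∈ cubC A x := S.V_le_C S.c_mem_V
theorem card_V : Nat.card S.V = 4 := by rw [V, card_push, card_V42]
theorem card_E : Nat.card S.E = 8 := by rw [E, card_push, card_E2]
theorem card_W : Nat.card S.W = 4 := by rw [W, card_cs, S.card_V]

theorem normalizer_V : normalizer (S.V : Set G) = A :=
  S.prim.normalizer_eq S.V_le_A (fun h => by have := S.card_V; rw [h, card_bot] at this; omega)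
    (le_normalizer_push _ _)

theorem normalizer_E : normalizer (S.E : Set G) = A :=
  S.prim.normalizer_eq (push_le _ _) (fun h => by have := S.card_E; rw [h, card_bot] at this; omega)
    (le_normalizer_push _ _)

theorem cent_z : centralizer ({S.z} : Set G) = A := by
  have hne : zpowers S.z ≠ ⊥ := by rw [Ne, zpowers_eq_bot]; exact S.z_ne
  have hnorm := S.prim.normalizer_eq (zpowers_le.2 (S.el_mem zz)) hne (fun a ha => by
    refine centralizer_le_normalizer _ (mem_centralizer_iff.2 fun w hw => ?_)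
    obtain ⟨i, rfl⟩ := hw
    exact ((Commute.zpow_right (show Commute a S.z from S.z_comm ha)) i).eq.symm)
  refine le_antisymm (fun g hg => hnorm.le ?_) fun a ha => mem_cent_iff.2 (S.z_comm ha)
  refine centralizer_le_normalizer _ (mem_centralizer_iff.2 fun w hw => ?_)
  obtain ⟨i, rfl⟩ := hw
  exact ((Commute.zpow_right (show Commute g S.z from mem_cent_iff.1 hg)) i).eq.symm

theorem cent_V {g : G} (hg : ∀ v ∈ S.V, v * g = g * v) : g ∈ S.E := by
  have hgA : g ∈ A := S.normalizer_V.le (centralizer_le_normalizer _ (mem_centralizer_iff.2 hg))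
  obtain ⟨k, rfl⟩ := S.exists_el hgA
  refine S.el_mem_push.2 (cent_V42 k fun v hv => S.el_inj ?_)
  rw [el_mul, el_mul]
  exact hg _ (S.el_mem_push.2 hv)

theorem V_cases {v w : G} (hv : v ∈ S.V) (hw : w ∈ S.V) (hv1 : v ≠ 1) (hvc : v ≠ S.c) :
    w = 1 ∨ w = S.c ∨ w = v ∨ w = v * S.c := by
  obtain ⟨k, hk, rfl⟩ := S.exists_el_push hv
  obtain ⟨l, hl, rfl⟩ := S.exists_el_push hw
  rcases V42_cases k l hk hl (fun h => hv1 (by rw [h, el_one])) (fun h => hvc (by rw [h]; rfl)) with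
    rfl | rfl | rfl | rfl
  · exact Or.inl S.el_one
  · exact Or.inr (Or.inl rfl)
  · exact Or.inr (Or.inr (Or.inl rfl))
  · exact Or.inr (Or.inr (Or.inr (S.el_mul _ _)))

theorem x_mem : x ∈ normalizer (cubC A x : Set G) := cs_eq_self_iff.1 S.cub.xC

theorem normalizer_C_A {g : G} (hg : g ∈ normalizer (cubC A x : Set G)) (hgA : g ∈ A) : g ∈ cubC A x := by
  set C := cubC A x
  suffices h : A ⊓ normalizer (C : Set G) = C from h.le ⟨hgA, hg⟩
  have hC := S.card_C
  have hA := S.card_A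
  symm
  refine eq_of_le_of_card_ge (le_inf Cub.hCA le_normalizer) ?_
  obtain ⟨d, hd⟩ := card_dvd_of_le (le_inf Cub.hCA le_normalizer : C ≤ A ⊓ normalizer (C : Set G))
  have hd3 : 16 * d ∣ 16 * 3 := by
    rw [← hC, ← hd, show Nat.card C * 3 = Nat.card A by rw [hA, hC]]
    exact card_dvd_of_le inf_le_left
  rcases (Nat.dvd_prime Nat.prime_three).1 (Nat.dvd_of_mul_dvd_mul_left (by norm_num) hd3) with rfl | rfl
  · rw [hd, mul_one]
  · have hAN : A ≤ normalizer (C : Set G) :=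
      (eq_of_le_of_card_ge (inf_le_left : A ⊓ normalizer (C : Set G) ≤ A) (by rw [hd, hA, hC])).ge.trans
        inf_le_right
    exact absurd (cs_eq_self_iff.2 (hAN S.cub.sA)) S.cub.notnorm

theorem fix_c {g : G} (hg : g ∈ normalizer (cubC A x : Set G)) : g * S.c * g⁻¹ = S.c := by
  obtain ⟨a, b, ha, hb, hab⟩ := comm_D02_exists
  obtain ⟨a', ha', hae⟩ := S.exists_el_C ((mem_normalizer_iff.1 hg _).1 (S.el_mem_C ha))
  obtain ⟨b', hb', hbe⟩ := S.exists_el_C ((mem_normalizer_iff.1 hg _).1 (S.el_mem_C hb))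
  have h1 : g * S.c * g⁻¹ = S.el (a' * b' * a'⁻¹ * b'⁻¹) := by
    simp only [el_mul, el_inv, hae, hbe, c, ← hab]
    group
  rcases comm_D02 a' b' ha' hb' with h | h
  · rw [h, el_one, conj_eq_one_iff] at h1
    exact absurd h1 S.c_ne
  · rw [h] at h1
    exact h1

/-- An element of the normaliser of `C` outside `A`. -/
def Out' (_S : STwo A x s) (g : G) : Prop := g ∈ normalizer (cubC A x : Set G) ∧ g ∉ A

theorem out_x : S.Out' x := ⟨S.x_mem, S.cub.xmem⟩

variable {S} in
theorem Out'.inv {g : G} (hg : S.Out' g) : S.Out' g⁻¹ :=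
  ⟨inv_mem hg.1, fun h => hg.2 (by simpa using inv_mem h)⟩

variable {S} in
theorem Out'.mul_C {g k : G} (hg : S.Out' g) (hk : k ∈ cubC A x) : S.Out' (g * k) :=
  ⟨mul_mem hg.1 (le_normalizer hk), fun h => hg.2 (by simpa using mul_mem h (inv_mem (Cub.hCA hk)))⟩

theorem move_z {g : G} (hg : S.Out' g) : g * S.z * g⁻¹ = S.z * S.c := by
  obtain ⟨k, hk, hke⟩ := S.exists_el_C ((mem_normalizer_iff.1 hg.1 _).1 S.z_mem_C)
  have hcen : ∀ l ∈ D02, l * k = k * l := by
    intro l hl
    refine S.el_inj ?_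
    rw [el_mul, el_mul, hke]
    have h1 : g⁻¹ * S.el l * g ∈ cubC A x := by
      have := (mem_normalizer_iff.1 (inv_mem hg.1) (S.el l)).1 (S.el_mem_C hl)
      rwa [inv_inv] at this
    have h2 := S.z_comm (Cub.hCA h1)
    calc S.el l * (g * S.z * g⁻¹) = g * (g⁻¹ * S.el l * g * S.z) * g⁻¹ := by group
      _ = g * (S.z * (g⁻¹ * S.el l * g)) * g⁻¹ := by rw [h2]
      _ = g * S.z * g⁻¹ * S.el l := by group
  rcases center_D02 k hk hcen with rfl | rfl | rfl | rfl
  · rw [el_one, eq_comm, conj_eq_one_iff] at hke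
    exact absurd hke S.z_ne
  · exfalso
    have h1 : g * S.c * g⁻¹ = g * S.z * g⁻¹ := (S.fix_c hg.1).trans hke
    exact S.c_ne_z (mul_left_cancel (mul_right_cancel h1))
  · exfalso
    exact hg.2 (S.cent_z.le (mem_cent_iff.2 (mul_inv_eq_iff_eq_mul.1 hke.symm)))
  · rw [← hke, el_mul]; rfl

variable {S} in
theorem Out'.inv_mul {g g' : G} (hg : S.Out' g) (hg' : S.Out' g') : g⁻¹ * g' ∈ cubC A x := by
  refine S.normalizer_C_A (mul_mem (inv_mem hg.1) hg'.1) (S.cent_z.le (mem_cent_iff.2 ?_))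
  have h1 := (S.move_z hg).trans (S.move_z hg').symm
  calc g⁻¹ * g' * S.z = g⁻¹ * (g' * S.z * g'⁻¹) * g' := by group
    _ = g⁻¹ * (g * S.z * g⁻¹) * g' := by rw [h1]
    _ = S.z * (g⁻¹ * g') := by group

variable {S} in
theorem Out'.sq_mem_C {g : G} (hg : S.Out' g) : g * g ∈ cubC A x := by
  simpa using (hg.inv).inv_mul hg

theorem cs_V {g : G} (hg : S.Out' g) : cs g S.V = S.W := by
  have h1 := S.out_x.inv_mul hg
  rw [show g = x * (x⁻¹ * g) by group, cs_mul,
    cs_eq_self_iff.2 (S.normalizer_V.ge (Cub.hCA h1))]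
  rfl

theorem cs_W {g : G} (hg : S.Out' g) : cs g S.W = S.V := by
  rw [← S.cs_V hg.inv, cs_cs_inv]

theorem W_ne_V : S.W ≠ S.V := fun h => S.cub.xmem (S.normalizer_V.le (cs_eq_self_iff.1 h))

theorem W_le_C : S.W ≤ cubC A x := (cs_mono S.V_le_C).trans S.cub.xC.le

theorem W_normal_C {a : G} (ha : a ∈ cubC A x) : cs a S.W = S.W := by
  have h1 : x⁻¹ * a * x ∈ cubC A x := by
    have := (mem_normalizer_iff.1 (inv_mem S.x_mem) a).1 ha
    rwa [inv_inv] at this
  rw [W, ← cs_mul, show a * x = x * (x⁻¹ * a * x) by group, cs_mul,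
    cs_eq_self_iff.2 (S.normalizer_V.ge (Cub.hCA h1))]

theorem V_normal_C {a : G} (ha : a ∈ cubC A x) : cs a S.V = S.V :=
  cs_eq_self_iff.2 (S.normalizer_V.ge (Cub.hCA ha))

theorem c_mem_W : S.c ∈ S.W := by
  refine mem_cs.2 ?_
  have := S.fix_c (inv_mem S.x_mem)
  rw [inv_inv] at this
  rw [this]
  exact S.c_mem_V

theorem W_cases {v w : G} (hv : v ∈ S.W) (hw : w ∈ S.W) (hv1 : v ≠ 1) (hvc : v ≠ S.c) :
    w = 1 ∨ w = S.c ∨ w = v ∨ w = v * S.c := by
  have hfix := S.fix_c (inv_mem S.x_mem)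
  rw [inv_inv] at hfix
  have hfix' := S.fix_c S.x_mem
  rcases S.V_cases (mem_cs.1 hv) (mem_cs.1 hw)
    (fun h => hv1 (by rwa [mul_assoc, inv_mul_eq_iff_eq_mul, mul_one, mul_eq_right] at h))
    (fun h => hvc (by rw [← hfix', ← h]; group)) with h | h | h | h
  · left
    rwa [mul_assoc, inv_mul_eq_iff_eq_mul, mul_one, mul_eq_right] at h
  · right; left
    rw [← hfix', ← h]; group
  · right; right; left
    exact mul_right_cancel (mul_left_cancel ((mul_assoc x⁻¹ w x).symm.trans (h.trans (mul_assoc x⁻¹ v x))))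
  · right; right; right
    calc w = x * (x⁻¹ * w * x) * x⁻¹ := by group
      _ = v * (x * S.c * x⁻¹) := by rw [h]; group
      _ = v * S.c := by rw [hfix']

theorem W_sq {w : G} (hw : w ∈ S.W) : w * w = 1 := by
  obtain ⟨k, hk, hke⟩ := S.exists_el_push (mem_cs.1 hw)
  calc w * w = x * ((x⁻¹ * w * x) * (x⁻¹ * w * x)) * x⁻¹ := by group
    _ = 1 := by rw [← hke, ← el_mul, sq_V42 k hk, el_one, mul_one, mul_inv_cancel]

theorem V_sq {w : G} (hw : w ∈ S.V) : w * w = 1 := by
  obtain ⟨k, hk, rfl⟩ := S.exists_el_push hw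
  rw [← el_mul, sq_V42 k hk, el_one]

theorem W_V {v : G} (hv : v ∈ S.V) (hw : v ∈ S.W) : v = 1 ∨ v = S.c := by
  by_contra h
  push Not at h
  refine S.W_ne_V (eq_of_le_of_card_ge (fun w hw' => ?_) (by rw [S.card_V, S.card_W]))
  rcases S.W_cases hw hw' h.1 h.2 with rfl | rfl | rfl | rfl
  · exact one_mem _
  · exact S.c_mem_V
  · exact hv
  · exact mul_mem hv S.c_mem_V

theorem W_E {w : G} (hw : w ∈ S.W) (hE : w ∈ S.E) : w = 1 ∨ w = S.c := by
  by_contra h
  push Not at h
  have hWE : S.W ≤ S.E := fun w' hw' => by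
    rcases S.W_cases hw hw' h.1 h.2 with rfl | rfl | rfl | rfl
    · exact one_mem _
    · exact S.V_le_E S.c_mem_V
    · exact hE
    · exact mul_mem hE (S.V_le_E S.c_mem_V)
  have hlt : 4 < Nat.card S.D := by
    refine lt_of_le_of_ne (S.card_V.ge.trans (Nat.le_of_dvd Nat.card_pos (card_dvd_of_le le_sup_left))) fun q => ?_
    have h1 : S.V = S.D := eq_of_le_of_card_ge le_sup_left (by rw [← q, S.card_V])
    exact S.W_ne_V (eq_of_le_of_card_ge (h1.ge.trans' le_sup_right) (by rw [S.card_V, S.card_W]))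
  have hd : Nat.card S.D ∣ 2 ^ 3 := by
    rw [show (2 : ℕ) ^ 3 = 8 from rfl, ← S.card_E]; exact card_dvd_of_le (sup_le S.V_le_E hWE)
  have hDE : S.D = S.E := by
    refine eq_of_le_of_card_ge (sup_le S.V_le_E hWE) ?_
    obtain ⟨k, hk3, hk⟩ := (Nat.dvd_prime_pow Nat.prime_two).1 hd
    rw [S.card_E, hk]; rw [hk] at hlt
    interval_cases k <;> simp_all
  refine S.cub.xmem (S.normalizer_E.le ?_)
  rw [← hDE]
  exact cs_eq_self_iff.1 (by rw [D, cs_sup, S.cs_V S.out_x, S.cs_W S.out_x, sup_comm])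

theorem V_comm {u v : G} (hu : u ∈ S.V) (hv : v ∈ S.V) : u * v = v * u := by
  calc u * v = (u * v)⁻¹ := (inv_eq_of_mul_eq_one_left (S.V_sq (mul_mem hu hv))).symm
    _ = v⁻¹ * u⁻¹ := mul_inv_rev u v
    _ = v * u := by rw [inv_eq_of_mul_eq_one_left (S.V_sq hu), inv_eq_of_mul_eq_one_left (S.V_sq hv)]

/-- Non-central elements of the two four-groups do not commute. -/
theorem W_V_mul {v w : G} (hv : v ∈ S.V) (hv1 : v ≠ 1) (hvc : v ≠ S.c) (hw : w ∈ S.W) (hw1 : w ≠ 1)
    (hwc : w ≠ S.c) : w * v = v * w * S.c := by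
  have hwC := S.W_le_C hw
  have h1 : w * v * w⁻¹ ∈ S.V := by
    rw [← S.V_normal_C hwC, mem_cs]
    simpa [mul_assoc] using hv
  rcases S.V_cases hv h1 hv1 hvc with h | h | h | h
  · exact absurd (conj_eq_one_iff.1 h) hv1
  · refine absurd ?_ hvc
    calc v = w⁻¹ * (w * v * w⁻¹) * w := by group
      _ = w⁻¹ * (S.c * w) := by rw [h, mul_assoc]
      _ = S.c := by rw [← S.c_comm hwC, inv_mul_cancel_left]
  · have hwE : w ∈ S.E := S.cent_V fun v' hv' => by
      rcases S.V_cases hv hv' hv1 hvc with rfl | rfl | rfl | rfl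
      · simp
      · exact (S.c_comm hwC).symm
      · exact (mul_inv_eq_iff_eq_mul.1 h).symm
      · calc v * S.c * w = v * (w * S.c) := by rw [mul_assoc, S.c_comm hwC]
          _ = w * (v * S.c) := by rw [← mul_assoc, ← mul_inv_eq_iff_eq_mul.1 h, mul_assoc]
    rcases S.W_E hw hwE with q | q
    · exact absurd q hw1
    · exact absurd q hwc
  · rw [mul_inv_eq_iff_eq_mul.1 h, mul_assoc, ← S.c_comm hwC, ← mul_assoc]

theorem D_le_C : S.D ≤ cubC A x := sup_le S.V_le_C S.W_le_C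

theorem mem_D {d : G} (hd : d ∈ S.D) : ∃ v ∈ S.V, ∃ w ∈ S.W, v * w = d := by
  have hn : S.W ≤ normalizer (S.V : Set G) := fun w hw => S.normalizer_V.ge (Cub.hCA (S.W_le_C hw))
  rw [D, ← SetLike.mem_coe, coe_mul_of_right_le_normalizer_left _ _ hn] at hd
  exact hd

/-- An element of `D` is in a four-group, or has square `c`. -/
theorem D_cases {d : G} (hd : d ∈ S.D) :
    (d ∈ S.V ∨ d ∈ S.W) ∨ (∃ v ∈ S.V, ∃ w ∈ S.W, v ≠ 1 ∧ v ≠ S.c ∧ w ≠ 1 ∧ w ≠ S.c ∧ v * w = d ∧ d * d = S.c) := by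
  obtain ⟨v, hv, w, hw, rfl⟩ := S.mem_D hd
  by_cases hw' : w = 1 ∨ w = S.c
  · refine Or.inl (Or.inl (mul_mem hv ?_))
    rcases hw' with rfl | rfl
    · exact one_mem _
    · exact S.c_mem_V
  by_cases hv' : v = 1 ∨ v = S.c
  · refine Or.inl (Or.inr (mul_mem ?_ hw))
    rcases hv' with rfl | rfl
    · exact one_mem _
    · exact S.c_mem_W
  push Not at hv' hw'
  refine Or.inr ⟨v, hv, w, hw, hv'.1, hv'.2, hw'.1, hw'.2, rfl, ?_⟩
  calc v * w * (v * w) = v * (w * v) * w := by group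
    _ = (v * v) * w * (S.c * w) := by rw [S.W_V_mul hv hv'.1 hv'.2 hw hw'.1 hw'.2]; group
    _ = w * (w * S.c) := by rw [S.V_sq hv, one_mul, S.c_comm (S.W_le_C hw)]
    _ = S.c := by rw [← mul_assoc, S.W_sq hw, one_mul]

theorem z_not_mem_D : S.z ∉ S.D := by
  intro h
  rcases S.D_cases h with (q | q) | ⟨v, hv, w, hw, hv1, hvc, hw1, hwc, he, hsq⟩
  · obtain ⟨k, hk, hke⟩ := S.exists_el_push q
    rw [S.el_inj hke] at hk
    exact absurd hk (by decide +kernel)
  · rcases S.W_E q S.z_mem_E with e | e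
    · exact S.z_ne e
    · exact S.c_ne_z e.symm
  · rw [S.z_mul_z] at hsq
    exact S.c_ne hsq.symm

theorem cs_D {g : G} (hg : S.Out' g) : cs g S.D = S.D := by
  rw [D, cs_sup, S.cs_V hg, S.cs_W hg, sup_comm]

theorem C_cases {k : G} (hk : k ∈ cubC A x) : k ∈ S.D ∨ S.z * k ∈ S.D := by
  have hidx : (S.D.subgroupOf (cubC A x)).index = 2 := by
    have hlt : 4 < Nat.card S.D := by
      refine lt_of_le_of_ne (S.card_V.ge.trans (Nat.le_of_dvd Nat.card_pos (card_dvd_of_le le_sup_left))) fun q => ?_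
      have h1 : S.V = S.D := eq_of_le_of_card_ge le_sup_left (by rw [← q, S.card_V])
      exact S.W_ne_V (eq_of_le_of_card_ge (h1.ge.trans' le_sup_right) (by rw [S.card_V, S.card_W]))
    have hne : Nat.card S.D ≠ 16 := fun q =>
      S.z_not_mem_D ((eq_of_le_of_card_ge S.D_le_C (by rw [q, S.card_C])).ge S.z_mem_C)
    have hd : Nat.card S.D ∣ 2 ^ 4 := by
      rw [show (2 : ℕ) ^ 4 = 16 from rfl, ← S.card_C]; exact card_dvd_of_le S.D_le_C
    obtain ⟨j, hj4, hj⟩ := (Nat.dvd_prime_pow Nat.prime_two).1 hd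
    have h1 := card_mul_index (S.D.subgroupOf (cubC A x))
    rw [Nat.card_congr (subgroupOfEquivOfLe S.D_le_C).toEquiv, S.card_C, hj] at h1
    rw [hj] at hne hlt
    interval_cases j <;> omega
  by_contra h
  push Not at h
  have h1 := (mul_mem_iff_of_index_two hidx (a := ⟨S.z, S.z_mem_C⟩) (b := ⟨k, hk⟩)).2
    (iff_of_false (fun q => S.z_not_mem_D q) (fun q => h.1 q))
  exact h.2 h1

theorem sq_mem_D {y : G} (hy : S.Out' y) : y * y ∈ S.D := by
  rcases S.C_cases (hy.sq_mem_C) with h | h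
  · exact h
  exfalso
  set d := S.z * (y * y) with hd
  have hdC := S.D_le_C h
  have hyy : y * y = S.z * d := by rw [hd, ← mul_assoc, S.z_mul_z, one_mul]
  clear_value d
  have hcy := S.fix_c hy.1
  have hdd : y * d * y⁻¹ = d * S.c := by
    have h1 : S.z * S.c * (y * d * y⁻¹) = S.z * d := by
      rw [← S.move_z hy, ← hyy]
      calc y * S.z * y⁻¹ * (y * d * y⁻¹) = y * (S.z * d) * y⁻¹ := by group
        _ = y * y := by rw [← hyy]; group
    rw [mul_assoc] at h1
    have h2 := mul_left_cancel h1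
    calc y * d * y⁻¹ = S.c * (S.c * (y * d * y⁻¹)) := by rw [← mul_assoc, S.c_mul_c, one_mul]
      _ = S.c * d := by rw [h2]
      _ = d * S.c := (S.c_comm hdC).symm
  rcases S.D_cases h with (q | q) | ⟨v, hv, w0, hw0, hv1, hvc, hw1, hwc, hvw, -⟩
  · have h1 : y * d * y⁻¹ ∈ S.W := S.cs_V hy ▸ ⟨d, q, rfl⟩
    rw [hdd] at h1
    have h2 : d ∈ S.W := by simpa using mul_mem h1 (inv_mem S.c_mem_W)
    rcases S.W_V q h2 with e | e <;> rw [e] at hdd
    · rw [mul_one, mul_inv_cancel, one_mul] at hdd; exact S.c_ne hdd.symm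
    · rw [hcy, S.c_mul_c] at hdd; exact S.c_ne hdd
  · have h1 : y * d * y⁻¹ ∈ S.V := S.cs_W hy ▸ ⟨d, q, rfl⟩
    rw [hdd] at h1
    have h2 : d ∈ S.V := by simpa using mul_mem h1 (inv_mem S.c_mem_V)
    rcases S.W_V h2 q with e | e <;> rw [e] at hdd
    · rw [mul_one, mul_inv_cancel, one_mul] at hdd; exact S.c_ne hdd.symm
    · rw [hcy, S.c_mul_c] at hdd; exact S.c_ne hdd
  · set w := y * v * y⁻¹ with hw
    have hwW : w ∈ S.W := S.cs_V hy ▸ ⟨v, hv, rfl⟩
    have hwv1 : w ≠ 1 := fun e => hv1 (conj_eq_one_iff.1 e)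
    have hwvc : w ≠ S.c := fun e => hvc (by
      have : y * v * y⁻¹ = y * S.c * y⁻¹ := by rw [hcy]; exact e
      exact mul_left_cancel (mul_right_cancel this))
    have hw0c := S.c_comm (S.W_le_C hw0)
    have hdv : d * v * d⁻¹ = v * S.c := by
      rw [← hvw]
      calc v * w0 * v * (v * w0)⁻¹ = v * (w0 * v) * w0⁻¹ * v⁻¹ := by group
        _ = v * (v * w0 * S.c) * w0⁻¹ * v⁻¹ := by rw [S.W_V_mul hv hv1 hvc hw0 hw1 hwc]
        _ = v * v * (w0 * S.c * w0⁻¹) * v⁻¹ := by group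
        _ = S.c * v := by rw [hw0c, S.V_sq hv, mul_inv_cancel_right, one_mul,
              inv_eq_of_mul_eq_one_left (S.V_sq hv)]
        _ = v * S.c := (S.c_comm (S.V_le_C hv)).symm
    have hyw : y * w * y⁻¹ = v * S.c := by
      calc y * w * y⁻¹ = (y * y) * v * (y * y)⁻¹ := by rw [hw]; group
        _ = S.z * (d * v * d⁻¹) * S.z⁻¹ := by rw [hyy]; group
        _ = v * S.c := by rw [hdv, ← S.z_comm (mul_mem (S.V_le_A hv) (S.V_le_A S.c_mem_V)),
              mul_inv_cancel_right]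
    have hwvcc := S.c_comm (S.W_le_C hwW)
    have hfix : y * d * y⁻¹ = d := by
      rcases S.W_cases hwW hw0 hwv1 hwvc with e | e | e | e
      · exact absurd e hw1
      · exact absurd e hwc
      · calc y * d * y⁻¹ = (y * v * y⁻¹) * (y * w * y⁻¹) := by rw [← hvw, e]; group
          _ = w * v * S.c := by rw [← hw, hyw, ← mul_assoc]
          _ = v * w * (S.c * S.c) := by rw [S.W_V_mul hv hv1 hvc hwW hwv1 hwvc, mul_assoc]
          _ = d := by rw [S.c_mul_c, mul_one, ← hvw, e]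
      · calc y * d * y⁻¹ = (y * v * y⁻¹) * ((y * w * y⁻¹) * (y * S.c * y⁻¹)) := by rw [← hvw, e]; group
          _ = w * (v * S.c * S.c) := by rw [← hw, hyw, hcy]
          _ = d := by rw [mul_assoc v, S.c_mul_c, mul_one, S.W_V_mul hv hv1 hvc hwW hwv1 hwvc, ← hvw, e, mul_assoc]
    rw [hfix] at hdd
    exact S.c_ne (mul_eq_left.1 hdd.symm)

/-- A coset with no involution. -/
theorem exists_free : ∃ y, S.Out' y ∧ ∀ d ∈ S.D, y * d * (y * d) ≠ 1 := by
  by_contra hne
  push Not at hne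
  obtain ⟨d1, hd1, hu⟩ := hne x S.out_x
  obtain ⟨d2, hd2, hu2⟩ := hne (x * S.z) (S.out_x.mul_C S.z_mem_C)
  set u := x * d1 with hudef
  have huO : S.Out' u := S.out_x.mul_C (S.D_le_C hd1)
  set d := d1⁻¹ * d2 with hddef
  have hdD : d ∈ S.D := mul_mem (inv_mem hd1) hd2
  have hu' : x * S.z * d2 = u * S.z * d := by
    rw [hudef, hddef]
    calc x * S.z * d2 = x * (S.z * d1) * (d1⁻¹ * d2) := by group
      _ = x * (d1 * S.z) * (d1⁻¹ * d2) := by rw [S.z_comm (Cub.hCA (S.D_le_C hd1))]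
      _ = x * d1 * S.z * (d1⁻¹ * d2) := by group
  rw [hu'] at hu2
  clear_value d
  have hui : u⁻¹ = u := inv_eq_of_mul_eq_one_left hu
  have hdC := S.D_le_C hdD
  have hmz : u * S.z * u⁻¹ = S.z * S.c := S.move_z huO
  -- `d` is mapped to `c d⁻¹`
  have hdu : u * d * u⁻¹ = S.c * d⁻¹ := by
    have hdA : u * d * u⁻¹ ∈ A := Cub.hCA ((mem_normalizer_iff.1 huO.1 _).1 hdC)
    have h1 : S.z * S.c * (u * d * u⁻¹) * (S.z * d) = 1 := by
      rw [← hmz]
      calc u * S.z * u⁻¹ * (u * d * u⁻¹) * (S.z * d) = u * S.z * d * (u⁻¹ * S.z * d) := by group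
        _ = 1 := by rw [hui]; exact hu2
    have h2 : S.c * (u * d * u⁻¹) * d = 1 := by
      calc S.c * (u * d * u⁻¹) * d = (S.z * S.z) * (S.c * (u * d * u⁻¹)) * d := by rw [S.z_mul_z, one_mul]
        _ = S.z * (S.z * (S.c * (u * d * u⁻¹))) * d := by group
        _ = S.z * (S.c * (u * d * u⁻¹) * S.z) * d := by
              rw [S.z_comm (mul_mem (Cub.hCA S.c_mem_C) hdA)]
        _ = S.z * S.c * (u * d * u⁻¹) * (S.z * d) := by group
        _ = 1 := h1
    calc u * d * u⁻¹ = S.c⁻¹ * (S.c * (u * d * u⁻¹) * d) * d⁻¹ := by group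
      _ = S.c * d⁻¹ := by rw [h2, mul_one, S.c_inv]
  rcases S.D_cases hdD with (q | q) | ⟨v, hv, w0, hw0, hv1, hvc, hw1, hwc, hvw, hsq⟩
  · have h1 : u * d * u⁻¹ ∈ S.W := S.cs_V huO ▸ ⟨d, q, rfl⟩
    rw [hdu] at h1
    have h2 : d ∈ S.W := inv_mem_iff.1 (by simpa using mul_mem (inv_mem S.c_mem_W) h1)
    rcases S.W_V q h2 with e | e <;> rw [e] at hdu
    · rw [mul_one, mul_inv_cancel, inv_one, mul_one] at hdu; exact S.c_ne hdu.symm
    · rw [S.fix_c huO.1, mul_inv_cancel] at hdu; exact S.c_ne hdu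
  · have h1 : u * d * u⁻¹ ∈ S.V := S.cs_W huO ▸ ⟨d, q, rfl⟩
    rw [hdu] at h1
    have h2 : d ∈ S.V := inv_mem_iff.1 (by simpa using mul_mem (inv_mem S.c_mem_V) h1)
    rcases S.W_V h2 q with e | e <;> rw [e] at hdu
    · rw [mul_one, mul_inv_cancel, inv_one, mul_one] at hdu; exact S.c_ne hdu.symm
    · rw [S.fix_c huO.1, mul_inv_cancel] at hdu; exact S.c_ne hdu
  · set w := u * v * u⁻¹ with hw
    have hwW : w ∈ S.W := S.cs_V huO ▸ ⟨v, hv, rfl⟩
    have hcu := S.fix_c huO.1
    have hwv1 : w ≠ 1 := fun e => hv1 (conj_eq_one_iff.1 e)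
    have hwvc : w ≠ S.c := fun e => hvc (by
      have : u * v * u⁻¹ = u * S.c * u⁻¹ := by rw [hcu]; exact e
      exact mul_left_cancel (mul_right_cancel this))
    have huw : u * w * u⁻¹ = v := by
      calc u * w * u⁻¹ = u * u * v * (u * u)⁻¹ := by rw [hw]; group
        _ = v := by rw [hu, one_mul, inv_one, mul_one]
    have hwvcc := S.c_comm (S.W_le_C hwW)
    have hfix : u * d * u⁻¹ = d * S.c := by
      rcases S.W_cases hwW hw0 hwv1 hwvc with e | e | e | e
      · exact absurd e hw1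
      · exact absurd e hwc
      · calc u * d * u⁻¹ = (u * v * u⁻¹) * (u * w * u⁻¹) := by rw [← hvw, e]; group
          _ = d * S.c := by rw [← hw, huw, S.W_V_mul hv hv1 hvc hwW hwv1 hwvc, ← hvw, e]
      · calc u * d * u⁻¹ = (u * v * u⁻¹) * (u * w * u⁻¹) * (u * S.c * u⁻¹) := by rw [← hvw, e]; group
          _ = d * S.c := by rw [← hw, huw, hcu, S.W_V_mul hv hv1 hvc hwW hwv1 hwvc, ← hvw, e, mul_assoc v]
    have hdi : d⁻¹ = d * S.c := inv_eq_of_mul_eq_one_left (by
      calc d * S.c * d = d * (S.c * d) := mul_assoc _ _ _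
        _ = d * (d * S.c) := by rw [S.c_comm hdC]
        _ = 1 := by rw [← mul_assoc, hsq, S.c_mul_c])
    rw [hfix, hdi, ← mul_assoc, ← S.c_comm hdC, mul_assoc, S.c_mul_c, mul_one] at hdu
    exact S.c_ne (mul_eq_left.1 hdu)

theorem card_N : Nat.card (normalizer (cubC A x : Set G)) = 32 := by
  set R := normalizer (cubC A x : Set G)
  have hidx : ((cubC A x).subgroupOf R).index = 2 := by
    rw [index_eq_two_iff]
    refine ⟨⟨x, S.x_mem⟩, fun b => ?_⟩
    by_cases hb : (b : G) ∈ cubC A x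
    · refine Or.inr ⟨hb, fun h => S.cub.xmem (Cub.hCA (A := A) (x := x) ?_)⟩
      simpa using mul_mem (inv_mem hb) (show (b : G) * x ∈ cubC A x from h)
    · refine Or.inl ⟨?_, hb⟩
      show (b : G) * x ∈ cubC A x
      have hbO : S.Out' (b : G) := ⟨b.2, fun h => hb (S.normalizer_C_A b.2 h)⟩
      simpa using (Out'.inv hbO).inv_mul S.out_x
  have h1 := card_mul_index ((cubC A x).subgroupOf R)
  rw [hidx, Nat.card_congr (subgroupOfEquivOfLe le_normalizer).toEquiv, S.card_C] at h1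
  exact h1.symm

theorem cent_out {y : G} (hy : S.Out' y) :
    Nat.card (cubC A x ⊓ centralizer ({y} : Set G) : Subgroup G) ≤ 4 := by
  set K := cubC A x ⊓ centralizer ({y} : Set G) with hK
  have hKE : Nat.card (K ⊓ S.E : Subgroup G) ≤ 2 := by
    have hsub : ((K ⊓ S.E : Subgroup G) : Set G) ⊆ {1, S.c} := by
      intro g hg
      obtain ⟨⟨hgC, hgy⟩, hgE⟩ := hg
      have hfix : y * g * y⁻¹ = g := mul_inv_eq_iff_eq_mul.2 (mem_cent_iff.1 hgy).symm
      obtain ⟨k, hk, rfl⟩ := S.exists_el_push hgE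
      have : k = (k.1, 1) ∨ k = zz * (k.1, 1) := by
        obtain ⟨k1, k2⟩ := k
        rcases (by decide : ∀ m : Multiplicative (ZMod 2), m = 1 ∨ m = Multiplicative.ofAdd 1) k2 with rfl | rfl
        · exact Or.inl rfl
        · exact Or.inr (by simp [zz])
      have hv : S.el (k.1, 1) ∈ S.V := S.el_mem_push.2 (mem_V42.2 ⟨mem_E2.1 hk, rfl⟩)
      set v := S.el (k.1, 1)
      have hvW : y * v * y⁻¹ ∈ S.W := S.cs_V hy ▸ ⟨v, hv, rfl⟩
      rcases this with e | e
      · rw [show S.el k = v by rw [e]] at hfix ⊢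
        rw [hfix] at hvW
        exact S.W_V hv hvW
      · exfalso
        rw [show S.el k = S.z * v by rw [e, el_mul]; rfl] at hfix
        have h1 : S.c * (y * v * y⁻¹) = v := by
          have h0 : S.z * S.c * (y * v * y⁻¹) = S.z * v := by
            rw [← S.move_z hy]
            refine Eq.trans ?_ hfix
            group
          rw [mul_assoc] at h0
          exact mul_left_cancel h0
        have h2 : v ∈ S.W := h1 ▸ mul_mem S.c_mem_W hvW
        rcases S.W_V hv h2 with q | q <;> rw [q] at h1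
        · rw [mul_one, mul_inv_cancel, mul_one] at h1; exact S.c_ne h1
        · rw [S.fix_c hy.1, S.c_mul_c] at h1; exact S.c_ne h1.symm
    have h1 := (Set.ncard_le_ncard hsub (Set.toFinite _)).trans (Set.ncard_insert_le _ _)
    rw [Set.ncard_singleton, ← Nat.card_coe_set_eq] at h1
    exact h1
  have h1 := card_mul_index (S.E.subgroupOf K)
  rw [← card_subtype K (S.E.subgroupOf K), subgroupOf_map_subtype, inf_comm] at h1
  have h2 : (S.E.subgroupOf K).index ≤ 2 := by
    refine (relIndex_le_of_le_right (inf_le_left : K ≤ cubC A x) fun h0 => index_ne_zero_of_finite h0).trans ?_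
    have h3 := card_mul_index (S.E.subgroupOf (cubC A x))
    rw [Nat.card_congr (subgroupOfEquivOfLe S.E_le_C).toEquiv, S.card_E, S.card_C] at h3
    show (S.E.subgroupOf (cubC A x)).index ≤ 2
    omega
  rw [← h1]
  exact Nat.mul_le_mul hKE h2

/-- The normaliser of `C` is a Sylow 2-subgroup. -/
theorem exists_sylow : ∃ P : Sylow 2 G, (P : Subgroup G) = normalizer (cubC A x : Set G) := by
  classical
  haveI : Fact (Nat.Prime 2) := ⟨Nat.prime_two⟩
  set R := normalizer (cubC A x : Set G)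
  have hR : IsPGroup 2 R := IsPGroup.of_card (n := 5) (by rw [S.card_N]; rfl)
  obtain ⟨P, hP⟩ := hR.exists_le_sylow
  refine ⟨P, ?_⟩
  by_contra hne
  haveI := P.2.isNilpotent
  have hlt : R.subgroupOf (P : Subgroup G) < ⊤ := lt_top_iff_ne_top.2 fun e =>
    hne (le_antisymm (subgroupOf_eq_top.1 e) hP)
  obtain ⟨g, hgN, hgR⟩ := SetLike.exists_of_lt
    (normalizerCondition_of_isNilpotent (G := (P : Subgroup G)) _ hlt)
  apply hgR
  show (g : G) ∈ R
  have hconj : ∀ r ∈ R, (g : G) * r * (g : G)⁻¹ ∈ R := fun r hr =>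
    (mem_normalizer_iff.1 hgN ⟨r, hP hr⟩).1 hr
  set u := (g : G) * S.z * (g : G)⁻¹ with hu
  have huR : u ∈ R := hconj _ (le_normalizer S.z_mem_C)
  have hRz : R ⊓ centralizer ({S.z} : Set G) = cubC A x := by
    rw [S.cent_z]
    exact le_antisymm (fun r hr => S.normalizer_C_A hr.1 hr.2) (le_inf le_normalizer Cub.hCA)
  -- the centraliser of the conjugate in `R` is the conjugate of `C`
  have hmap : cs (g : G) (cubC A x) ≤ R ⊓ centralizer ({u} : Set G) := by
    rintro _ ⟨r, hr, rfl⟩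
    refine ⟨hconj r (le_normalizer hr), mem_cent_iff.2 ?_⟩
    show (g : G) * r * (g : G)⁻¹ * u = u * ((g : G) * r * (g : G)⁻¹)
    rw [hu, conj_mul, conj_mul, S.z_comm (Cub.hCA hr)]
  have h16 : 16 ≤ Nat.card (R ⊓ centralizer ({u} : Set G) : Subgroup G) := by
    have := Nat.le_of_dvd Nat.card_pos (card_dvd_of_le hmap)
    rwa [card_cs, S.card_C] at this
  by_cases huC : u ∈ cubC A x
  · have hRu : R ⊓ centralizer ({u} : Set G) ≤ cubC A x := by
      intro r hr
      by_contra hrC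
      have hrO : S.Out' r := ⟨hr.1, fun h => hrC (S.normalizer_C_A hr.1 h)⟩
      -- `u` is an involution of `C` fixed by `r`, hence `1` or `c`
      have hu2 : u * u = 1 := by rw [hu, conj_mul, S.z_mul_z, mul_one, mul_inv_cancel]
      have hru : r * u * r⁻¹ = u := mul_inv_eq_iff_eq_mul.2 (mem_cent_iff.1 hr.2)
      have hu1 : u ≠ 1 := fun e => S.z_ne (conj_eq_one_iff.1 e)
      have huc : u ≠ S.c := by
        intro e
        have h1 : cs (g : G) A = centralizer ({S.c} : Set G) := by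
          rw [← e, hu]
          ext w
          rw [mem_cs, ← SetLike.ext_iff.1 S.cent_z ((g : G)⁻¹ * w * g), mem_cent_iff, mem_cent_iff]
          constructor
          · intro hw
            calc w * ((g : G) * S.z * (g : G)⁻¹) = (g : G) * ((g : G)⁻¹ * w * g * S.z) * (g : G)⁻¹ := by group
              _ = (g : G) * (S.z * ((g : G)⁻¹ * w * g)) * (g : G)⁻¹ := by rw [hw]
              _ = (g : G) * S.z * (g : G)⁻¹ * w := by group
          · intro hw
            calc (g : G)⁻¹ * w * g * S.z = (g : G)⁻¹ * (w * ((g : G) * S.z * (g : G)⁻¹)) * g := by group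
              _ = (g : G)⁻¹ * ((g : G) * S.z * (g : G)⁻¹ * w) * g := by rw [hw]
              _ = S.z * ((g : G)⁻¹ * w * g) := by group
        have h2 : R ≤ centralizer ({S.c} : Set G) := fun w hw =>
          mem_cent_iff.2 (mul_inv_eq_iff_eq_mul.1 (S.fix_c hw))
        have h3 := card_dvd_of_le h2
        rw [← h1, card_cs, S.card_A, S.card_N] at h3
        norm_num at h3
      rcases S.C_cases huC with q | q
      · rcases S.D_cases q with (q' | q') | ⟨v, -, w, -, -, -, -, -, -, hsq⟩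
        · have h1 : r * u * r⁻¹ ∈ S.W := S.cs_V hrO ▸ ⟨u, q', rfl⟩
          rw [hru] at h1
          rcases S.W_V q' h1 with e | e
          · exact hu1 e
          · exact huc e
        · have h1 : r * u * r⁻¹ ∈ S.V := S.cs_W hrO ▸ ⟨u, q', rfl⟩
          rw [hru] at h1
          rcases S.W_V h1 q' with e | e
          · exact hu1 e
          · exact huc e
        · exact S.c_ne (hsq.symm.trans hu2)
      · set d := S.z * u with hd
        have hrd : S.c * (r * d * r⁻¹) = d := by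
          have h1 : u = S.z * d := by rw [hd, ← mul_assoc, S.z_mul_z, one_mul]
          have h0 : S.z * S.c * (r * d * r⁻¹) = S.z * d := by
            rw [← S.move_z hrO, ← h1]
            refine Eq.trans ?_ hru
            rw [h1]; group
          rw [mul_assoc] at h0
          exact mul_left_cancel h0
        have hdd : d * d = 1 := by
          rw [hd]
          calc S.z * u * (S.z * u) = S.z * (u * S.z) * u := by group
            _ = S.z * (S.z * u) * u := by rw [S.z_comm (Cub.hCA huC)]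
            _ = (S.z * S.z) * (u * u) := by group
            _ = 1 := by rw [S.z_mul_z, hu2, one_mul]
        rcases S.D_cases q with (q' | q') | ⟨v, -, w, -, -, -, -, -, -, hsq⟩
        · have h1 : r * d * r⁻¹ ∈ S.W := S.cs_V hrO ▸ ⟨d, q', rfl⟩
          have h2 : d ∈ S.W := hrd ▸ mul_mem S.c_mem_W h1
          rcases S.W_V q' h2 with e | e <;> rw [e] at hrd
          · rw [mul_one, mul_inv_cancel, mul_one] at hrd; exact S.c_ne hrd
          · rw [S.fix_c hrO.1, S.c_mul_c] at hrd; exact S.c_ne hrd.symm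
        · have h1 : r * d * r⁻¹ ∈ S.V := S.cs_W hrO ▸ ⟨d, q', rfl⟩
          have h2 : d ∈ S.V := hrd ▸ mul_mem S.c_mem_V h1
          rcases S.W_V h2 q' with e | e <;> rw [e] at hrd
          · rw [mul_one, mul_inv_cancel, mul_one] at hrd; exact S.c_ne hrd
          · rw [S.fix_c hrO.1, S.c_mul_c] at hrd; exact S.c_ne hrd.symm
        · exact S.c_ne (hsq.symm.trans hdd)
    exact cs_eq_self_iff.1 (cs_eq_of_le (hmap.trans hRu))
  · exfalso
    have huO : S.Out' u := ⟨huR, fun h => huC (S.normalizer_C_A huR h)⟩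
    set K := R ⊓ centralizer ({u} : Set G)
    have h1 := card_mul_index ((cubC A x).subgroupOf K)
    rw [← card_subtype K ((cubC A x).subgroupOf K), subgroupOf_map_subtype] at h1
    have h2 : Nat.card ((cubC A x) ⊓ K : Subgroup G) ≤ 4 :=
      (Nat.le_of_dvd Nat.card_pos (card_dvd_of_le (inf_le_inf_left _ inf_le_right))).trans (S.cent_out huO)
    have h3 : ((cubC A x).subgroupOf K).index ≤ 2 := by
      refine (relIndex_le_of_le_right (inf_le_left : K ≤ R) fun h0 => index_ne_zero_of_finite h0).trans ?_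
      have h4 := card_mul_index ((cubC A x).subgroupOf R)
      rw [Nat.card_congr (subgroupOfEquivOfLe le_normalizer).toEquiv, S.card_C, S.card_N] at h4
      show ((cubC A x).subgroupOf R).index ≤ 2
      omega
    have := Nat.mul_le_mul h2 h3
    omega

theorem conj_c {v : G} (hv : v ∈ S.V ∨ v ∈ S.W) (hv1 : v ≠ 1) : ∃ g : G, g * S.c * g⁻¹ = v := by
  have key : ∀ w ∈ S.V, w ≠ 1 → ∃ g : G, g * S.c * g⁻¹ = w := fun w hw hw1 => by
    obtain ⟨k, hk, rfl⟩ := S.exists_el_push hw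
    obtain ⟨l, hl⟩ := conj_cc k hk fun e => hw1 (by rw [e, el_one])
    exact ⟨S.el l, by rw [c, ← el_inv, ← el_mul, ← el_mul, hl]⟩
  rcases hv with q | q
  · exact key v q hv1
  · obtain ⟨g, hg⟩ := key _ (mem_cs.1 q) (fun e => hv1 (by
      rwa [mul_assoc, inv_mul_eq_iff_eq_mul, mul_one, mul_eq_right] at e))
    refine ⟨x * g, ?_⟩
    calc x * g * S.c * (x * g)⁻¹ = x * (g * S.c * g⁻¹) * x⁻¹ := by group
      _ = v := by rw [hg]; group

/-- A normal subgroup of index two avoiding `z`. -/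
theorem exists_index_two : ∃ N : Subgroup G, N.Normal ∧ N.index = 2 ∧ S.z ∉ N := by
  obtain ⟨P, hP⟩ := S.exists_sylow
  obtain ⟨y, hy, hfree⟩ := S.exists_free
  have hyD := S.sq_mem_D hy
  have hyn : ∀ d ∈ S.D, y * d * y⁻¹ ∈ S.D := fun d hd => (S.cs_D hy).le ⟨d, hd, rfl⟩
  have hyn' : ∀ d ∈ S.D, y⁻¹ * d * y ∈ S.D := fun d hd => by
    have := (S.cs_D hy.inv).le ⟨d, hd, rfl⟩
    simpa using this
  let M : Subgroup G :=
    { carrier := {g | g ∈ S.D ∨ y⁻¹ * g ∈ S.D}
      one_mem' := Or.inl (one_mem _)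
      mul_mem' := fun {a b} ha hb => by
        rcases ha with ha | ha <;> rcases hb with hb | hb
        · exact Or.inl (mul_mem ha hb)
        · refine Or.inr ?_
          rw [show y⁻¹ * (a * b) = (y⁻¹ * a * y) * (y⁻¹ * b) by group]
          exact mul_mem (hyn' a ha) hb
        · refine Or.inr ?_
          rw [← mul_assoc]
          exact mul_mem ha hb
        · refine Or.inl ?_
          rw [show a * b = y * (y⁻¹ * a) * y⁻¹ * (y * y) * (y⁻¹ * b) by group]
          exact mul_mem (mul_mem (hyn _ ha) hyD) hb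
      inv_mem' := fun {a} ha => by
        rcases ha with ha | ha
        · exact Or.inl (inv_mem ha)
        · refine Or.inr ?_
          rw [show y⁻¹ * a⁻¹ = y⁻¹ * (y⁻¹ * a)⁻¹ * y * (y * y)⁻¹ by group]
          exact mul_mem (hyn' _ (inv_mem ha)) (inv_mem hyD) }
  have hMP : M ≤ (P : Subgroup G) := by
    rw [hP]
    rintro g (hg | hg)
    · exact le_normalizer (S.D_le_C hg)
    · have := mul_mem hy.1 (le_normalizer (S.D_le_C hg))
      rwa [mul_inv_cancel_left] at this
  have hzM : S.z ∉ M := by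
    rintro (h | h)
    · exact S.z_not_mem_D h
    · refine hy.2 ?_
      have := mul_mem (S.el_mem zz) (inv_mem (Cub.hCA (S.D_le_C h)))
      simpa [z] using this
  have hidx : M.relIndex (P : Subgroup G) = 2 := by
    show (M.subgroupOf (P : Subgroup G)).index = 2
    rw [index_eq_two_iff]
    refine ⟨⟨S.z, hP.ge (le_normalizer S.z_mem_C)⟩, fun b => ?_⟩
    have hb : (b : G) ∈ normalizer (cubC A x : Set G) := hP.le b.2
    by_cases hbM : (b : G) ∈ M
    · refine Or.inr ⟨hbM, fun h => hzM ?_⟩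
      simpa using mul_mem (inv_mem hbM) (show (b : G) * S.z ∈ M from h)
    · refine Or.inl ⟨?_, hbM⟩
      show (b : G) * S.z ∈ M
      by_cases hbA : (b : G) ∈ A
      · rcases S.C_cases (S.normalizer_C_A hb hbA) with q | q
        · exact absurd (Or.inl q) hbM
        · exact Or.inl (by rw [S.z_comm hbA]; exact q)
      · have hbC := hy.inv_mul ⟨hb, hbA⟩
        rcases S.C_cases hbC with q | q
        · exact absurd (Or.inr q) hbM
        · refine Or.inr ?_
          rw [← mul_assoc, S.z_comm (Cub.hCA hbC)]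
          exact q
  refine Transfer.exists_index_two_of_involution P M hMP hidx S.z (by rw [sq, S.z_mul_z])
    (hP.ge (le_normalizer S.z_mem_C)) hzM fun g hg => ?_
  set u := g * S.z * g⁻¹ with hu
  have hu2 : u * u = 1 := by rw [hu, conj_mul, S.z_mul_z, mul_one, mul_inv_cancel]
  have hu1 : u ≠ 1 := fun e => S.z_ne (conj_eq_one_iff.1 e)
  have huVW : u ∈ S.V ∨ u ∈ S.W := by
    rcases hg with q | q
    · rcases S.D_cases q with h | ⟨v, -, w, -, -, -, -, -, -, hsq⟩
      · exact h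
      · exact absurd (hsq.symm.trans hu2) S.c_ne
    · exact absurd (by rwa [mul_inv_cancel_left]) (hfree _ q)
  obtain ⟨k, hk⟩ := S.conj_c huVW hu1
  -- then `c` is conjugate to `z`
  have hRc : normalizer (cubC A x : Set G) ≤ cs (k⁻¹ * g) A := fun w hw => by
    rw [mem_cs, ← SetLike.ext_iff.1 S.cent_z, mem_cent_iff]
    have hwc : w * S.c = S.c * w := mul_inv_eq_iff_eq_mul.1 (S.fix_c hw)
    have hcz : S.c = (k⁻¹ * g) * S.z * (k⁻¹ * g)⁻¹ := by
      calc S.c = k⁻¹ * (k * S.c * k⁻¹) * k := by group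
        _ = k⁻¹ * (g * S.z * g⁻¹) * k := by rw [hk]
        _ = _ := by group
    generalize k⁻¹ * g = m at hcz ⊢
    rw [hcz] at hwc
    calc m⁻¹ * w * m * S.z = m⁻¹ * (w * (m * S.z * m⁻¹)) * m := by group
      _ = m⁻¹ * (m * S.z * m⁻¹ * w) * m := by rw [hwc]
      _ = S.z * (m⁻¹ * w * m) := by group
  have h3 := card_dvd_of_le hRc
  rw [card_cs, S.card_A, S.card_N] at h3
  norm_num at h3

end STwo

end Cfsg.Agent.SuborbitThree
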