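import Cfsg.Agent.Lib.SuborbitThree.Setting
import Cfsg.Agent.S3331
import Cfsg.Agent.Lib.CharInt.Burnside
import Cfsg.Agent.S0799
import Cfsg.Agent.Lib.PSL2.MaximalOdd

/-!
Point stabilisers of order 3 or 6.
-/

set_option autoImplicit false
set_option linter.style.haveILetI false
set_option linter.unusedSectionVars false

namespace Cfsg.Agent.SuborbitThree

open Subgroup

variable {G : Type*} [Group G] [Finite G] {A : Subgroup G}

/-- Maximal subgroups of `PSL(2, 7)` have order 21 or 24. -/
theorem card_coatom_psl_seven (e : G ≃* Matrix.ProjectiveSpecialLinearGroup (Fin 2) (ZMod 7))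
    (hA : IsCoatom A) : Nat.card A = 21 ∨ Nat.card A = 24 := by
  haveI : Fact (Nat.Prime 7) := ⟨by norm_num⟩
  set M := e.mapSubgroup A
  have hM : IsCoatom M := (OrderIso.isCoatom_iff e.mapSubgroup A).2 hA
  have hc : Nat.card M = Nat.card A := (Nat.card_congr (A.equivMapOfInjective e.toMonoidHom e.injective).toEquiv).symm
  have h7 : Fintype.card (ZMod 7) = 7 := ZMod.card 7
  rcases PSL2.Maximal.classify_odd (F := ZMod 7) 7 (by rw [h7]; exact ⟨3, rfl⟩) (by rw [h7]; norm_num) hM
      (S0799.result rfl 7 M) with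
    h | ⟨h, -⟩ | ⟨h, -⟩ | ⟨F₀, _, _, h, -⟩ | ⟨F₀, _, _, r, hr, -, h, -⟩ | ⟨h, -⟩ | ⟨-, h, -⟩ | ⟨-, -, ⟨φ⟩⟩
  all_goals (try rw [h7] at h)
  · left; omega
  · omega
  · exact absurd rfl h
  · have h2 := Fintype.one_lt_card (α := F₀)
    have : Fintype.card F₀ < 3 := by nlinarith
    have e : Fintype.card F₀ = 2 := by omega
    rw [e] at h; omega
  · exfalso
    have h2 := Fintype.one_lt_card (α := F₀)
    have h3 : Fintype.card F₀ ^ 2 ≤ Fintype.card F₀ ^ r := Nat.pow_le_pow_right (by omega) hr.two_le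
    have h4 : Fintype.card F₀ < 3 := by nlinarith
    rw [show Fintype.card F₀ = 2 by omega] at h
    have : 2 ∣ 7 := h ▸ dvd_pow_self 2 hr.ne_zero
    omega
  · omega
  · omega
  · right
    rw [← hc, Nat.card_congr φ.toEquiv, Nat.card_perm, Nat.card_fin]
    rfl

variable (h : Prim A)
include h

/-- A small stabiliser with a self-centralising subgroup of order 3 gives `A₅`. -/
theorem alt_five_of_selfcent (hA : Nat.card A < 21) (X : Subgroup G) (hX : Nat.card X = 3)
    (hC : centralizer (X : Set G) = X) : Nonempty (G ≃* alternatingGroup (Fin 5)) := by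
  rcases S3331.result X hX hC with ⟨N, hN, hnil, -, hq⟩ | ⟨N, hN, hab, -, ⟨φ⟩⟩ | ⟨⟨φ⟩⟩
  · exfalso
    haveI := hnil
    refine h.insol (isSolvable_of_ext N inferInstance ?_)
    obtain ⟨i, hi⟩ : ∃ i, Nat.card (G ⧸ N) = 2 ^ i * 3 ^ 1 := by
      rcases hq with hq | ⟨⟨φ⟩⟩
      · exact ⟨0, by rw [hq]; rfl⟩
      · exact ⟨1, by rw [Nat.card_congr φ.toEquiv, Nat.card_perm, Nat.card_fin]; rfl⟩
    exact CharInt.isSolvable_of_card_eq Nat.prime_two Nat.prime_three hi
  · haveI := hab
    have hbot : N = ⊥ := h.normal_eq_bot (Group.isSolvable_of_comm fun a b => IsMulCommutative.is_comm.comm a b)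
    exact ⟨(QuotientGroup.quotientBot.symm.trans (QuotientGroup.quotientMulEquivOfEq hbot.symm)).trans φ⟩
  · rcases card_coatom_psl_seven φ h.max with e | e <;> omega

theorem case_three (hA : Nat.card A = 3) : Nonempty (G ≃* alternatingGroup (Fin 5)) := by
  haveI : Fact (Nat.Prime 3) := ⟨Nat.prime_three⟩
  refine alt_five_of_selfcent h (by omega) A hA (le_antisymm ?_ ?_)
  · have hne : A ≠ ⊥ := fun e => by rw [e, card_bot] at hA; omega
    exact (centralizer_le_normalizer _).trans (h.normalizer_eq le_rfl hne le_normalizer).le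
  · haveI := isCyclic_of_prime_card (α := A) hA
    exact fun a ha => mem_centralizer_iff.2 fun b hb =>
      congrArg Subtype.val (IsMulCommutative.is_comm.comm (⟨b, hb⟩ : A) ⟨a, ha⟩)

theorem case_perm_three (e : A ≃* Equiv.Perm (Fin 3)) : Nonempty (G ≃* alternatingGroup (Fin 5)) := by
  have hcA : Nat.card A = 6 := by rw [Nat.card_congr e.toEquiv, Nat.card_perm, Nat.card_fin]; rfl
  set S := alternatingGroup (Fin 3)
  have hS : Nat.card S = 3 := by
    rw [nat_card_alternatingGroup, Nat.card_fin]; rfl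
  refine alt_five_of_selfcent h (by omega) (push e S) (by rw [card_push, hS]) (le_antisymm ?_ ?_)
  · intro g hg
    have hgA : g ∈ A := (h.normalizer_eq (push_le e S) (push_ne_bot e S fun hb => by
      rw [hb, card_bot] at hS; omega) (le_normalizer_push e S)).le (centralizer_le_normalizer _ hg)
    refine (mem_push e S).2 ⟨hgA, ?_⟩
    have key : ∀ k : Equiv.Perm (Fin 3), (∀ x : Equiv.Perm (Fin 3), Equiv.Perm.sign x = 1 → x * k = k * x) →
        Equiv.Perm.sign k = 1 := by decide
    exact Equiv.Perm.mem_alternatingGroup.2 (key _ fun x hx =>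
      mem_centralizer_iff.1 (centralizer_push_mem e S hg hgA) x (Equiv.Perm.mem_alternatingGroup.2 hx))
  · intro a ha
    obtain ⟨haA, ham⟩ := (mem_push e S).1 ha
    refine mem_centralizer_iff.2 fun b hb => ?_
    obtain ⟨hbA, hbm⟩ := (mem_push e S).1 hb
    have key : ∀ x y : Equiv.Perm (Fin 3), Equiv.Perm.sign x = 1 → Equiv.Perm.sign y = 1 → x * y = y * x := by
      decide
    have h1 := key _ _ (Equiv.Perm.mem_alternatingGroup.1 hbm) (Equiv.Perm.mem_alternatingGroup.1 ham)
    rw [← map_mul, ← map_mul] at h1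
    exact congrArg Subtype.val (e.injective h1)

end Cfsg.Agent.SuborbitThree
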