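import Cfsg.Agent.Lib.SuborbitThree.Setting
import Mathlib.GroupTheory.Sylow
import Mathlib.GroupTheory.Perm.Fin

/-!
# Facts on the symmetric group of degree four
-/

set_option autoImplicit false
set_option linter.style.haveILetI false

namespace Cfsg.Agent.SuborbitThree

open Subgroup Equiv

/-- The symmetric group of degree four. -/
abbrev S4' := Equiv.Perm (Fin 4)

/-- The normal four-group. -/
def V4 : Subgroup S4' where
  carrier := {σ | σ * σ = 1 ∧ Equiv.Perm.sign σ = 1}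
  one_mem' := by show _ ∧ _; decide
  mul_mem' := fun {a b} ha hb => (by decide +kernel : ∀ a b : S4', (a * a = 1 ∧ Equiv.Perm.sign a = 1) →
    (b * b = 1 ∧ Equiv.Perm.sign b = 1) → (a * b * (a * b) = 1 ∧ Equiv.Perm.sign (a * b) = 1)) a b ha hb
  inv_mem' := fun {a} ha => (by decide +kernel : ∀ a : S4', (a * a = 1 ∧ Equiv.Perm.sign a = 1) →
    (a⁻¹ * a⁻¹ = 1 ∧ Equiv.Perm.sign a⁻¹ = 1)) a ha

theorem mem_V4 {σ : S4'} : σ ∈ V4 ↔ σ * σ = 1 ∧ Equiv.Perm.sign σ = 1 := Iff.rfl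

instance : DecidablePred (· ∈ V4) := fun σ => decidable_of_iff _ (mem_V4 (σ := σ)).symm

instance V4_normal : V4.Normal :=
  ⟨fun a ha g => (by decide +kernel : ∀ a g : S4', a ∈ V4 → g * a * g⁻¹ ∈ V4) a g ha⟩

theorem card_V4 : Nat.card V4 = 4 := by
  rw [Nat.card_eq_fintype_card]
  decide +kernel

theorem cent_V4 : ∀ g : S4', (∀ v ∈ V4, v * g = g * v) → g ∈ V4 := by decide +kernel

/-- A Sylow 2-subgroup. -/
def D0 : Subgroup S4' := centralizer ({swap 0 1 * swap 2 3} : Set S4')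

theorem mem_D0 {σ : S4'} : σ ∈ D0 ↔ σ * (swap 0 1 * swap 2 3) = swap 0 1 * swap 2 3 * σ :=
  mem_cent_iff

instance : DecidablePred (· ∈ D0) := fun σ => decidable_of_iff _ (mem_D0 (σ := σ)).symm

theorem card_D0 : Nat.card D0 = 8 := by
  rw [Nat.card_eq_fintype_card]
  decide +kernel

/-- The other four-group of `D0`. -/
def W0 : Subgroup S4' := centralizer ({swap 0 1} : Set S4')

theorem mem_W0 {σ : S4'} : σ ∈ W0 ↔ σ * swap 0 1 = swap 0 1 * σ := mem_cent_iff

instance : DecidablePred (· ∈ W0) := fun σ => decidable_of_iff _ (mem_W0 (σ := σ)).symm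

theorem card_W0 : Nat.card W0 = 4 := by
  rw [Nat.card_eq_fintype_card]
  decide +kernel

theorem V4_le_D0 : V4 ≤ D0 := (by decide +kernel : ∀ σ : S4', σ ∈ V4 → σ ∈ D0)

theorem W0_key : ∀ k l : S4', k ∈ D0 → k ∉ V4 → k * k = 1 → l ∈ D0 → l * l = 1 →
    k * l * (k * l) = 1 → l ∈ W0 := by decide +kernel

theorem pow_three_or_four : ∀ σ : S4', σ ^ 3 = 1 ∨ σ ^ 4 = 1 := by decide +kernel

variable {G : Type*} [Group G] {A : Subgroup G}

/-- An identification of `A` matching a given subgroup of order eight with `D0`. -/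
theorem exists_equiv_D0 (e : A ≃* S4') {C : Subgroup G} (hCA : C ≤ A) (hC : Nat.card C = 8) :
    ∃ e' : A ≃* S4', push e' D0 = C := by
  haveI : Fact (Nat.Prime 2) := ⟨Nat.prime_two⟩
  set K : Subgroup S4' := (C.subgroupOf A).map e.toMonoidHom
  have hK : Nat.card K = 8 := by
    rw [card_map_of_injective e.injective, Nat.card_congr (subgroupOfEquivOfLe hCA).toEquiv, hC]
  have h8 : 2 ^ (Nat.card S4').factorization 2 = 8 := by
    rw [Nat.card_perm, Nat.card_fin, show Nat.factorial 4 = 2 ^ 3 * 3 from rfl,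
      Nat.factorization_mul (by norm_num) (by norm_num), Finsupp.add_apply,
      Nat.Prime.factorization_pow Nat.prime_two, Finsupp.single_eq_same,
      Nat.factorization_eq_zero_of_not_dvd (by norm_num : ¬ 2 ∣ 3)]
    rfl
  obtain ⟨g, hg⟩ := MulAction.exists_smul_eq S4' (Sylow.ofCard K (hK.trans h8.symm))
    (Sylow.ofCard D0 (card_D0.trans h8.symm))
  refine ⟨e.trans (MulAut.conj g), ?_⟩
  have hg' : (Sylow.ofCard K (hK.trans h8.symm) : Subgroup S4').map (MulAut.conj g).toMonoidHom = D0 :=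
    congrArg (fun P : Sylow 2 S4' => (P : Subgroup S4')) hg
  ext a
  rw [mem_push]
  constructor
  · rintro ⟨ha, hm⟩
    rw [← hg'] at hm
    obtain ⟨k, hk, hke⟩ := hm
    have : k = e ⟨a, ha⟩ := (MulAut.conj g).injective hke
    subst this
    obtain ⟨b, hb, hbe⟩ := hk
    have hb' : b = ⟨a, ha⟩ := e.injective hbe
    subst hb'
    exact hb
  · intro ha
    refine ⟨hCA ha, ?_⟩
    rw [← hg']
    exact ⟨_, ⟨⟨a, hCA ha⟩, ha, rfl⟩, rfl⟩

end Cfsg.Agent.SuborbitThree
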