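import Cfsg.Agent.Lib.SuborbitThree.PermFour

/-!
# Facts on `S4 × 2`
-/

set_option autoImplicit false
set_option linter.style.haveILetI false

namespace Cfsg.Agent.SuborbitThree

open Subgroup Equiv

set_option synthInstance.maxSize 4000
set_option synthInstance.maxHeartbeats 200000

/-- `S4 × 2`. -/
abbrev K2 := S4' × Multiplicative (ZMod 2)

/-- The normal four-group. -/
def V42 : Subgroup K2 := V4.prod ⊥

/-- The largest normal 2-subgroup. -/
def E2 : Subgroup K2 := V4.prod ⊤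

/-- A Sylow 2-subgroup. -/
def D02 : Subgroup K2 := D0.prod ⊤

/-- The central involution. -/
def zz : K2 := (1, Multiplicative.ofAdd 1)

/-- The commutator of a Sylow 2-subgroup. -/
def cc : K2 := (swap 0 1 * swap 2 3, 1)

theorem mem_V42 {k : K2} : k ∈ V42 ↔ k.1 ∈ V4 ∧ k.2 = 1 := by simp [V42, mem_prod]
theorem mem_E2 {k : K2} : k ∈ E2 ↔ k.1 ∈ V4 := by simp [E2, mem_prod]
theorem mem_D02 {k : K2} : k ∈ D02 ↔ k.1 ∈ D0 := by simp [D02, mem_prod]

instance : DecidablePred (· ∈ V42) := fun k => decidable_of_iff _ (mem_V42 (k := k)).symm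
instance : DecidablePred (· ∈ E2) := fun k => decidable_of_iff _ (mem_E2 (k := k)).symm
instance : DecidablePred (· ∈ D02) := fun k => decidable_of_iff _ (mem_D02 (k := k)).symm

instance V42_normal : V42.Normal := by unfold V42; infer_instance
instance E2_normal : E2.Normal := by unfold E2; infer_instance

theorem card_V42 : Nat.card V42 = 4 := by
  rw [Nat.card_eq_fintype_card]
  decide +kernel

theorem card_E2 : Nat.card E2 = 8 := by
  rw [Nat.card_eq_fintype_card]
  decide +kernel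

theorem card_D02 : Nat.card D02 = 16 := by
  rw [Nat.card_eq_fintype_card]
  decide +kernel

theorem card_K2 : Nat.card K2 = 48 := by
  rw [Nat.card_eq_fintype_card]
  decide +kernel

theorem V42_le_E2 : V42 ≤ E2 := fun _ hk => mem_E2.2 (mem_V42.1 hk).1

theorem E2_le_D02 : E2 ≤ D02 := fun _ hk => mem_D02.2 (V4_le_D0 (mem_E2.1 hk))

theorem zz_central : ∀ k : K2, k * zz = zz * k := by decide +kernel
theorem zz_mem : zz ∈ E2 := by decide +kernel
theorem zz_sq : zz * zz = 1 := by decide +kernel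
theorem zz_ne : zz ≠ 1 := by decide +kernel
theorem cc_mem : cc ∈ V42 := by decide +kernel
theorem cc_ne : cc ≠ 1 := by decide +kernel
theorem cc_ne_zz : cc ≠ zz := by decide +kernel
theorem cc_center : ∀ k : K2, k ∈ D02 → k * cc = cc * k := by decide +kernel
theorem cent_V42 : ∀ g : K2, (∀ v ∈ V42, v * g = g * v) → g ∈ E2 := by decide +kernel
theorem sq_V42 : ∀ v : K2, v ∈ V42 → v * v = 1 := by decide +kernel
theorem V42_cases : ∀ v w : K2, v ∈ V42 → w ∈ V42 → v ≠ 1 → v ≠ cc → w = 1 ∨ w = cc ∨ w = v ∨ w = v * cc := by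
  decide +kernel
theorem conj_cc : ∀ v : K2, v ∈ V42 → v ≠ 1 → ∃ k : K2, k * cc * k⁻¹ = v := by decide +kernel
theorem comm_D02 : ∀ a b : K2, a ∈ D02 → b ∈ D02 → a * b * a⁻¹ * b⁻¹ = 1 ∨ a * b * a⁻¹ * b⁻¹ = cc := by
  decide +kernel
theorem comm_D02_exists : ∃ a b : K2, a ∈ D02 ∧ b ∈ D02 ∧ a * b * a⁻¹ * b⁻¹ = cc := by decide +kernel
theorem center_D02 : ∀ g : K2, g ∈ D02 → (∀ k ∈ D02, k * g = g * k) → g = 1 ∨ g = cc ∨ g = zz ∨ g = zz * cc := by
  decide +kernel
theorem normal_closure : ∀ k : K2, k ≠ 1 → k ≠ zz → ∀ v ∈ V42,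
    v = 1 ∨ ∃ a b : K2, v = a * k * a⁻¹ * (b * k⁻¹ * b⁻¹) := by decide +kernel

variable {G : Type*} [Group G] {A : Subgroup G}

/-- An identification of `A` matching a given Sylow 2-subgroup with `D02`. -/
theorem exists_equiv_D02 (e : A ≃* K2) {C : Subgroup G} (hCA : C ≤ A) (hC : Nat.card C = 16) :
    ∃ e' : A ≃* K2, push e' D02 = C := by
  haveI : Fact (Nat.Prime 2) := ⟨Nat.prime_two⟩
  set K : Subgroup K2 := (C.subgroupOf A).map e.toMonoidHom
  have hK : Nat.card K = 16 := by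
    rw [card_map_of_injective e.injective, Nat.card_congr (subgroupOfEquivOfLe hCA).toEquiv, hC]
  have h16 : 2 ^ (Nat.card K2).factorization 2 = 16 := by
    rw [card_K2, show 48 = 2 ^ 4 * 3 from rfl,
      Nat.factorization_mul (by norm_num) (by norm_num), Finsupp.add_apply,
      Nat.Prime.factorization_pow Nat.prime_two, Finsupp.single_eq_same,
      Nat.factorization_eq_zero_of_not_dvd (by norm_num : ¬ 2 ∣ 3)]
    rfl
  obtain ⟨g, hg⟩ := MulAction.exists_smul_eq K2 (Sylow.ofCard K (hK.trans h16.symm))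
    (Sylow.ofCard D02 (card_D02.trans h16.symm))
  refine ⟨e.trans (MulAut.conj g), ?_⟩
  have hg' : (Sylow.ofCard K (hK.trans h16.symm) : Subgroup K2).map (MulAut.conj g).toMonoidHom = D02 :=
    congrArg (fun P : Sylow 2 K2 => (P : Subgroup K2)) hg
  ext a
  rw [mem_push]
  constructor
  · rintro ⟨ha, hm⟩
    rw [← hg'] at hm
    obtain ⟨k, hk, hke⟩ := hm
    have : k = e ⟨a, ha⟩ := (MulAut.conj g).injective hke
    subst this
    obtain ⟨b, hb, hbe⟩ := hk
    have hb' : b = ⟨a, ha⟩ := e.injective hbe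
    subst hb'
    exact hb
  · intro ha
    refine ⟨hCA ha, ?_⟩
    rw [← hg']
    exact ⟨_, ⟨⟨a, hCA ha⟩, ha, rfl⟩, rfl⟩

end Cfsg.Agent.SuborbitThree
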