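import Cfsg.Agent.Lib.Suborbit.Sims
import Cfsg.Agent.S0205

/-!
# Insoluble primitive groups with a suborbit of length three: generalities

`Prim A`: `A` is a solvable maximal core-free subgroup of an insoluble group.
-/

set_option autoImplicit false
set_option linter.style.haveILetI false
set_option linter.unusedSectionVars false

namespace Cfsg.Agent.SuborbitThree

open Subgroup

variable {G : Type*} [Group G]

/-- A solvable maximal core-free subgroup of an insoluble group. -/
structure Prim (A : Subgroup G) : Prop where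
  max : IsCoatom A
  core : ∀ U : Subgroup G, U.Normal → U ≤ A → U = ⊥
  solA : Group.IsSolvable A
  insol : ¬ Group.IsSolvable G

theorem mem_cent_iff {a g : G} : g ∈ centralizer ({a} : Set G) ↔ g * a = a * g :=
  mem_centralizer_singleton_iff


/-- The subgroup of `A` corresponding to a subgroup of a model `K` of `A`. -/
def push {K : Type*} [Group K] {A : Subgroup G} (e : A ≃* K) (S : Subgroup K) : Subgroup G :=
  (S.comap e.toMonoidHom).map A.subtype

section
variable {K : Type*} [Group K] {B : Subgroup G} (e : B ≃* K) (S : Subgroup K)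

theorem mem_push {g : G} : g ∈ push e S ↔ ∃ hg : g ∈ B, e ⟨g, hg⟩ ∈ S := by
  constructor
  · rintro ⟨b, hb, rfl⟩
    exact ⟨b.2, hb⟩
  · rintro ⟨hg, hm⟩
    exact ⟨⟨g, hg⟩, hm, rfl⟩

theorem coe_symm_mem_push {k : K} (hk : k ∈ S) : ((e.symm k : B) : G) ∈ push e S :=
  (mem_push e S).2 ⟨(e.symm k).2, by simpa using hk⟩

theorem push_le : push e S ≤ B := fun _ hg => ((mem_push e S).1 hg).1

theorem push_mono {S T : Subgroup K} (hST : S ≤ T) : push e S ≤ push e T :=
  map_mono (comap_mono hST)

theorem card_push : Nat.card (push e S) = Nat.card S := by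
  rw [push, card_map_of_injective (subtype_injective B)]
  exact Nat.card_congr (e.toEquiv.subtypeEquiv fun _ => Iff.rfl)

theorem push_ne_bot (hS : S ≠ ⊥) : push e S ≠ ⊥ := fun h => hS (card_eq_one.1 (by
  rw [← card_push e S, h, card_bot]))

theorem le_normalizer_push [hS : S.Normal] : B ≤ normalizer (push e S : Set G) := by
  intro b hb
  refine mem_normalizer_iff.2 fun g => ?_
  constructor
  · intro hg
    obtain ⟨hgB, hm⟩ := (mem_push e S).1 hg
    refine (mem_push e S).2 ⟨mul_mem (mul_mem hb hgB) (inv_mem hb), ?_⟩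
    have := hS.conj_mem _ hm (e ⟨b, hb⟩)
    rw [← map_inv, ← map_mul, ← map_mul] at this
    exact this
  · intro hg
    obtain ⟨hgB, hm⟩ := (mem_push e S).1 hg
    have hgB' : g ∈ B := by
      have := mul_mem (mul_mem (inv_mem hb) hgB) hb
      simpa [mul_assoc] using this
    refine (mem_push e S).2 ⟨hgB', ?_⟩
    have := hS.conj_mem _ hm (e ⟨b, hb⟩)⁻¹
    rw [inv_inv, ← map_inv, ← map_mul, ← map_mul] at this
    convert this using 2
    exact Subtype.ext (show g = b⁻¹ * (b * g * b⁻¹) * b by group)

theorem centralizer_push_mem {g : G} (hg : g ∈ centralizer (push e S : Set G)) (hgB : g ∈ B) :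
    e ⟨g, hgB⟩ ∈ centralizer (S : Set K) := by
  refine mem_centralizer_iff.2 fun k hk => ?_
  have h1 := mem_centralizer_iff.1 hg _ (coe_symm_mem_push e S hk)
  have h2 : e.symm k * ⟨g, hgB⟩ = ⟨g, hgB⟩ * e.symm k := Subtype.ext h1
  have := congrArg e h2
  simpa using this

end

/-- A group with a solvable normal subgroup and a solvable quotient is solvable. -/
theorem isSolvable_of_ext (N : Subgroup G) [N.Normal] (h1 : Group.IsSolvable N)
    (h2 : Group.IsSolvable (G ⧸ N)) : Group.IsSolvable G := by
  haveI := h1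
  haveI := h2
  exact Group.isSolvable_of_ker_le_range N.subtype (QuotientGroup.mk' N)
    (by rw [QuotientGroup.ker_mk', Subgroup.range_subtype])

variable {A : Subgroup G} (h : Prim A)
include h

theorem Prim.normalizer_eq {U : Subgroup G} (hU : U ≤ A) (hne : U ≠ ⊥)
    (hAU : A ≤ normalizer (U : Set G)) : normalizer (U : Set G) = A := by
  rcases hAU.eq_or_lt with e | e
  · exact e.symm
  · exact absurd (h.core U (normalizer_eq_top_iff.1 (h.max.2 _ e)) hU) hne

/-- A subgroup normalised by `A` lies in `A` or is normal. -/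
theorem Prim.le_or_normal {U : Subgroup G} (hne : U ≠ ⊥) (hAU : A ≤ normalizer (U : Set G)) :
    U ≤ A ∨ U.Normal := by
  rcases hAU.eq_or_lt with e | e
  · exact Or.inl (e ▸ le_normalizer)
  · exact Or.inr (normalizer_eq_top_iff.1 (h.max.2 _ e))

theorem Prim.sup_eq_top {N : Subgroup G} [hN : N.Normal] (hne : N ≠ ⊥) : A ⊔ N = ⊤ :=
  h.max.2 _ (lt_of_le_of_ne le_sup_left fun e => hne (h.core N hN (e ▸ le_sup_right)))

/-- `G ⧸ N` is an image of `A`. -/
theorem Prim.mk_surjective {N : Subgroup G} [N.Normal] (hne : N ≠ ⊥) :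
    Function.Surjective ((QuotientGroup.mk' N).comp A.subtype) := by
  rw [← MonoidHom.range_eq_top, MonoidHom.range_comp, Subgroup.range_subtype]
  apply comap_injective (QuotientGroup.mk'_surjective N)
  rw [comap_map_eq, QuotientGroup.ker_mk', comap_top]
  exact h.sup_eq_top hne

theorem Prim.solvable_quotient {N : Subgroup G} [N.Normal] (hne : N ≠ ⊥) : Group.IsSolvable (G ⧸ N) := by
  haveI := h.solA
  exact Group.isSolvable_of_surjective (h.mk_surjective hne)

theorem Prim.normal_not_solvable {N : Subgroup G} [N.Normal] (hne : N ≠ ⊥) : ¬ Group.IsSolvable N :=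
  fun hs => h.insol (isSolvable_of_ext N hs (h.solvable_quotient hne))

theorem Prim.normal_eq_bot {N : Subgroup G} [N.Normal] (hs : Group.IsSolvable N) : N = ⊥ :=
  by_contra fun hne => h.normal_not_solvable hne hs

omit h in
/-- The point stabiliser of an insoluble primitive group, if solvable. -/
theorem Prim.of_stabilizer [Finite G] {Ω : Type*} [MulAction G Ω] [FaithfulSMul G Ω]
    (hsol : ¬ Group.IsSolvable G) (hprim : MulAction.IsPreprimitive G Ω) (a b : Ω) (hab : a ≠ b)
    (hA : Group.IsSolvable (MulAction.stabilizer G a)) : Prim (MulAction.stabilizer G a) := by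
  haveI : Nontrivial Ω := ⟨⟨a, b, hab⟩⟩
  haveI := hprim.toIsPretransitive
  refine ⟨(MulAction.isCoatom_stabilizer_iff_preprimitive G a).2 hprim, fun U hU hUA => ?_, hA, hsol⟩
  rw [eq_bot_iff]
  intro t ht
  refine mem_bot.2 (FaithfulSMul.eq_of_smul_eq_smul (α := Ω) fun ω => ?_)
  obtain ⟨u, rfl⟩ := MulAction.exists_smul_eq G a ω
  rw [one_smul]
  have := MulAction.mem_stabilizer_iff.1 (hUA (hU.conj_mem t ht u⁻¹))
  rw [inv_inv, mul_smul, mul_smul, inv_smul_eq_iff] at this
  exact this

end Cfsg.Agent.SuborbitThree
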